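import Cfsg.Agent.Lib.PronormalPSU.Step

/-! The two-dimensional base cases. -/

set_option autoImplicit false
set_option linter.style.haveILetI false

namespace CfsgLib.PronormalPSU

open Matrix CfsgLib.PronormalPSL

variable {F : Type*} [Field F] [Fintype F] (φ : F →+* F) {q : ℕ}

theorem scalarU_mem_UGI {ι : Type*} [Fintype ι] [DecidableEq ι] (l : Fˣ)
    (hl : φ (l : F) * (l : F) = 1) : scalarU ι l ∈ UGI φ ι := by
  rw [mem_UGI, coe_scalarU, Matrix.diagonal_map φ.map_zero, Matrix.diagonal_transpose,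
    Matrix.diagonal_mul_diagonal, ← Matrix.diagonal_one]
  congr 1
  funext i
  exact hl

/-- The base case for `q ≡ 3 (mod 4)`. -/
theorem good_two_of_three (hq : ∀ x, φ x = x ^ q) (hF : Fintype.card F = q ^ 2) (h3 : q % 4 = 3) :
    GoodU φ (Fin 1 ⊕ Fin 1) := by
  have hodd : Fintype.card F % 4 = 1 := by
    rw [hF, Nat.pow_mod, h3]
  have h2 : (2 : F) ≠ 0 := Ring.two_ne_zero fun h => by
    have : CharP F 2 := ringChar.of_eq h
    have := FiniteField.even_card_of_char_two h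
    omega
  obtain ⟨T, hTmem, -⟩ := exists_two_part (UGI φ (Fin 1)) (fun a _ b _ => (isScalarU_unique a).comm b)
  have hT : (-1 : GL (Fin 1) F) ∈ T := (hTmem _).mpr ⟨neg_one_mem_UGI φ, 1, by simp⟩
  have hT2 : ∀ t ∈ T, ∃ k : ℕ, t ^ 2 ^ k = 1 := fun t ht => ((hTmem t).mp ht).2
  have hTU : T ≤ UGI φ (Fin 1) := fun t ht => ((hTmem t).mp ht).1
  obtain ⟨i, hi⟩ : IsSquare (-1 : F) := FiniteField.isSquare_neg_one_iff.mpr (by omega)
  have hi0 : i ≠ 0 := by
    rintro rfl
    simp at hi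
  set I : GL (Fin 1) F := scalarU (Fin 1) (Units.mk0 i hi0) with hIdef
  have hII : I * I = -1 := by
    rw [hIdef, ← map_mul, ← scalarU_neg_one]
    congr 1
    exact Units.ext (by simpa using hi.symm)
  have hne1 : (-1 : GL (Fin 1) F) ≠ 1 := by
    intro h
    rw [← scalarU_neg_one, ← map_one (scalarU (F := F) (Fin 1))] at h
    have h1 : (-1 : F) = 1 := by simpa using congrArg Units.val (scalarU_injective h)
    exact h2 (by linear_combination -h1)
  have hI : I ∈ T := (hTmem _).mpr ⟨scalarU_mem_UGI φ _ (by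
      rw [Units.val_mk0, hq, ← pow_succ]
      obtain ⟨c, hc⟩ : 4 ∣ q + 1 := by omega
      rw [hc, pow_mul, show i ^ 4 = (i * i) * (i * i) by ring, ← hi]
      simp), 2, by
    rw [show (2 : ℕ) ^ 2 = 2 * 2 by norm_num, pow_mul, pow_two, pow_two, hII, neg_mul_neg, one_mul]⟩
  set S := wr2 T hT with hS
  have hcentT : ∀ a : GL (Fin 1) F, (∀ c ∈ T, a * c = c * a) → IsScalarU a :=
    fun a _ => isScalarU_unique a
  have hJS : swapJ ∈ S := swapJ_mem_wr2
  have hS2 := wr2_two_group (hT := hT) hT2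
  have hX1 : ∀ c ∈ T, blockU (c, 1) ∈ S := fun c hc => blockU_mem_wr2.mpr ⟨hc, T.one_mem⟩
  have hXz : blockU (1, (-1 : GL (Fin 1) F)) ∈ S := blockU_mem_wr2.mpr ⟨T.one_mem, hT⟩
  have hc : ∃ c ∈ T, c * c ≠ 1 := ⟨I, hI, by rw [hII]; exact hne1⟩
  have hG' : ∀ a b, blockU (a, b) ∈ UGI φ (Fin 1 ⊕ Fin 1) → a ∈ UGI φ (Fin 1) ∧ b ∈ UGI φ (Fin 1) :=
    fun a b h => (blockU_mem_UGI φ).mp h
  refine ⟨S, ?_, ?_, hS2, ?_, ⟨swapJ, ⟨hJS, det_swapJ⟩, ?_⟩, ?_, ?_⟩
  · rw [← scalarU_neg_one, scalarU_sum, scalarU_neg_one]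
    exact blockU_mem_wr2.mpr ⟨hT, hT⟩
  · rintro x ⟨a, ha, b, hb, rfl | rfl⟩
    · exact (blockU_mem_UGI φ).mpr ⟨hTU ha, hTU hb⟩
    · exact mul_mem ((blockU_mem_UGI φ).mpr ⟨hTU ha, hTU hb⟩) (swapJ_mem_UGI φ)
  · intro a ha
    have hd : blockU (I, I⁻¹) ∈ S ⊓ detKer _ F := by
      refine ⟨blockU_mem_wr2.mpr ⟨hI, T.inv_mem hI⟩, ?_⟩
      show DetOne _
      rw [DetOne, det_blockU, ← Matrix.det_mul, ← Units.val_mul, mul_inv_cancel]
      simp
    have h1 := ha _ hd
    have e : blockU (I, I⁻¹) = scalarU _ (Units.mk0 i hi0) * blockU ((1 : GL (Fin 1) F), -1) := by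
      rw [scalarU_sum, ← map_mul, Prod.mk_mul_mk, mul_one, ← hIdef]
      congr 2
      rw [inv_eq_iff_mul_eq_one, ← mul_assoc, hII, neg_mul_neg, one_mul]
    rw [e, ← mul_assoc, ← scalarU_comm, mul_assoc, mul_assoc] at h1
    obtain ⟨A, B, rfl⟩ := exists_blockU_of_commute h2 a (mul_left_cancel h1)
    have h3 := ha _ ⟨hJS, det_swapJ⟩
    rw [swapJ_mul_blockU] at h3
    obtain ⟨e1, -⟩ := blockU_eq_iff.mp (mul_right_cancel h3)
    obtain ⟨l, rfl⟩ := isScalarU_unique A
    exact ⟨l, by rw [scalarU_sum, e1]⟩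
  · rw [swapJ_sq, ← map_one blockU]
    intro h
    exact hne1 (congrArg Prod.fst (blockU_injective h))
  · intro A hAU hA
    exact exists_pow_scalar (T1 := T) hcentT hX1 hJS hXz h2 hc le_rfl
      (fun t ht => blockU_mem_wr2.mpr ⟨ht, T.inv_mem ht⟩) hS2 hG'
      (fun B _ _ => ⟨0, isScalarU_unique _⟩) hAU (fun x => conj_mem_iff hA x)
  · intro A hAU hA hA2
    exact mem_wr2_of_two_element (T1 := T) hcentT hX1 hJS hXz h2 hc le_rfl
      (fun t ht => blockU_mem_wr2.mpr ⟨ht, T.inv_mem ht⟩) hS2 hG' (swapJ_mem_UGI φ)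
      (fun B hB _ hB2 => (hTmem B).mpr ⟨hB, hB2⟩) hAU (fun x => conj_mem_iff hA x) hA2

/-- Diagonal and antidiagonal elements of `GL₂`. -/
def dg (a b : Fˣ) : GL (Fin 2) F where
  val := !![(a : F), 0; 0, (b : F)]
  inv := !![((a⁻¹ : Fˣ) : F), 0; 0, ((b⁻¹ : Fˣ) : F)]
  val_inv := by ext i j; fin_cases i <;> fin_cases j <;> simp [Matrix.mul_apply, Fin.sum_univ_two]
  inv_val := by ext i j; fin_cases i <;> fin_cases j <;> simp [Matrix.mul_apply, Fin.sum_univ_two]

omit [Fintype F] in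
theorem coe_dg (a b : Fˣ) : (dg a b : Matrix (Fin 2) (Fin 2) F) = !![(a : F), 0; 0, (b : F)] := rfl

omit [Fintype F] in
theorem dg_mul (a b c d : Fˣ) : dg a b * dg c d = dg (a * c) (b * d) := by
  apply Units.ext
  rw [Units.val_mul, coe_dg, coe_dg, coe_dg]
  ext i j; fin_cases i <;> fin_cases j <;> simp [Matrix.mul_apply, Fin.sum_univ_two]

/-- The swap of the two basis vectors. -/
def sw : GL (Fin 2) F where
  val := !![0, 1; 1, 0]
  inv := !![0, 1; 1, 0]
  val_inv := by ext i j; fin_cases i <;> fin_cases j <;> simp [Matrix.mul_apply, Fin.sum_univ_two]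
  inv_val := by ext i j; fin_cases i <;> fin_cases j <;> simp [Matrix.mul_apply, Fin.sum_univ_two]

omit [Fintype F] in
theorem coe_sw : ((sw : GL (Fin 2) F) : Matrix (Fin 2) (Fin 2) F) = !![0, 1; 1, 0] := rfl

/-- The base case for `q ≡ 1 (mod 4)`. -/
theorem good_two_of_one (hq : ∀ x, φ x = x ^ q) (hF : Fintype.card F = q ^ 2) (h1 : q % 4 = 1) :
    GoodU φ (Fin 2) := by
  classical
  have hodd : Fintype.card F % 4 = 1 := by rw [hF, Nat.pow_mod, h1]
  have h2 : (2 : F) ≠ 0 := Ring.two_ne_zero fun h => by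
    have : CharP F 2 := ringChar.of_eq h
    have := FiniteField.even_card_of_char_two h
    omega
  have hφ2 : ∀ x, φ (φ x) = x := fun x => by
    rw [hq, hq, ← pow_mul, ← pow_two, ← hF, FiniteField.pow_card]
  have hm1 : φ (-1) = -1 := by rw [map_neg, map_one]
  have hq1 : 1 < q := by
    by_contra h
    have h4 : q ^ 2 ≤ 1 := by interval_cases q <;> simp at h1 ⊢
    have := Fintype.one_lt_card (α := F)
    omega
  -- a generator of the multiplicative group
  obtain ⟨x, hx⟩ := IsCyclic.exists_ofOrder_eq_natCard (α := Fˣ)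
  rw [Nat.card_units, Nat.card_eq_fintype_card, hF] at hx
  have hq2 : q ^ 2 - 1 = (q + 1) * (q - 1) := by
    have := Nat.sq_sub_sq q 1
    simpa using this
  have hn0 : q ^ 2 - 1 ≠ 0 := by
    rw [hq2]
    exact mul_ne_zero (by omega) (by omega)
  set o := (q ^ 2 - 1) / 2 ^ (q ^ 2 - 1).factorization 2 with ho
  have hoo : Odd o := by
    rw [← Nat.not_even_iff_odd, even_iff_two_dvd]
    exact Nat.not_dvd_ordCompl Nat.prime_two hn0
  have htwo : ∀ y : Fˣ, ∃ k : ℕ, (y ^ o) ^ 2 ^ k = 1 := fun y => ⟨(q ^ 2 - 1).factorization 2, by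
    rw [← pow_mul, ho, mul_comm, Nat.ordProj_mul_ordCompl_eq_self, ← hF, ← Fintype.card_units]
    exact pow_card_eq_one⟩
  -- the element `c` with `φ c * c = -1`, and the change of basis
  obtain ⟨h, hh⟩ : ∃ h, q - 1 = 2 * h := ⟨(q - 1) / 2, by omega⟩
  obtain ⟨m, hm⟩ : ∃ m, q + 1 = 2 * m := ⟨(q + 1) / 2, by omega⟩
  have hxhalf : (x : F) ^ ((q + 1) * h) = -1 := by
    have h0 : ((x : F) ^ ((q + 1) * h)) * ((x : F) ^ ((q + 1) * h)) = 1 := by
      rw [← pow_add, show (q + 1) * h + (q + 1) * h = q ^ 2 - 1 by rw [hq2, hh]; ring, ← hx,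
        ← Units.val_pow_eq_pow_val, pow_orderOf_eq_one, Units.val_one]
    rcases mul_self_eq_one_iff.mp h0 with h' | h'
    · exfalso
      have hd : orderOf x ∣ (q + 1) * h := orderOf_dvd_of_pow_eq_one (Units.ext (by simpa using h'))
      rw [hx, hq2, hh] at hd
      have hd' := Nat.dvd_of_mul_dvd_mul_left (by omega) hd
      have := Nat.le_of_dvd (by omega) hd'
      omega
    · exact h'
  set c : Fˣ := x ^ h with hc
  have hN : φ (c : F) * (c : F) = -1 := by
    rw [hq, hc, Units.val_pow_eq_pow_val, ← pow_succ, ← pow_mul, mul_comm, hxhalf]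
  obtain ⟨a1, ha1, hu⟩ : ∃ a : Fˣ, (∃ k : ℕ, a ^ 2 ^ k = 1) ∧ φ (a : F) = -(a : F) := by
    refine ⟨(x ^ m) ^ o, htwo _, ?_⟩
    have hxm : φ ((x ^ m : Fˣ) : F) = -((x ^ m : Fˣ) : F) := by
      rw [hq, Units.val_pow_eq_pow_val, ← pow_mul, show m * q = m + (q + 1) * h by
        have : q = 2 * h + 1 := by omega
        rw [hm]; nth_rw 1 [this]; ring, pow_add, hxhalf, mul_neg, mul_one]
    rw [Units.val_pow_eq_pow_val, map_pow, hxm, hoo.neg_pow]
  obtain ⟨a2, ha2, hu2⟩ : ∃ a : Fˣ, (∃ k : ℕ, a ^ 2 ^ k = 1) ∧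
      (a : F) ^ (2 * (q + 1)) ≠ 1 := by
    refine ⟨x ^ o, htwo _, ?_⟩
    intro h0
    have hd : orderOf x ∣ o * (2 * (q + 1)) := orderOf_dvd_of_pow_eq_one (Units.ext (by
      rw [Units.val_pow_eq_pow_val, pow_mul, ← Units.val_pow_eq_pow_val x o, h0, Units.val_one]))
    rw [hx, hq2, show o * (2 * (q + 1)) = (q + 1) * (2 * o) by ring] at hd
    have hd' : 4 ∣ 2 * o := (show 4 ∣ q - 1 by omega).trans (Nat.dvd_of_mul_dvd_mul_left (by omega) hd)
    rw [Nat.odd_iff] at hoo
    omega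
  have hc0 : (c : F) ≠ 0 := c.ne_zero
  let P : GL (Fin 2) F := Matrix.GeneralLinearGroup.mkOfDetNeZero !![1, 1; (c : F), -(c : F)] (by
    rw [Matrix.det_fin_two_of]
    intro h0
    exact hc0 (by
      have : (2 : F) * (c : F) = 0 := by linear_combination -h0
      simpa [h2] using this))
  have hPv : (P : Matrix (Fin 2) (Fin 2) F) = !![1, 1; (c : F), -(c : F)] := rfl
  have hPP : ((P : Matrix (Fin 2) (Fin 2) F).map φ)ᵀ * (P : Matrix (Fin 2) (Fin 2) F) =
      (2 : F) • ((sw : GL (Fin 2) F) : Matrix (Fin 2) (Fin 2) F) := by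
    rw [hPv, coe_sw]
    ext i j
    fin_cases i <;> fin_cases j <;>
      simp [Matrix.mul_apply, Fin.sum_univ_two, hN] <;> norm_num
  let Ψ := MulAut.conj P
  have hmemU : ∀ g : GL (Fin 2) F, Ψ g ∈ UGI φ (Fin 2) ↔
      ((g : Matrix (Fin 2) (Fin 2) F).map φ)ᵀ * (sw : GL (Fin 2) F) * (g : Matrix (Fin 2) (Fin 2) F) =
        ((sw : GL (Fin 2) F) : Matrix (Fin 2) (Fin 2) F) := by
    intro g
    set Pm := (P : Matrix (Fin 2) (Fin 2) F)
    set Pi' := ((P⁻¹ : GL (Fin 2) F) : Matrix (Fin 2) (Fin 2) F)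
    set G := (g : Matrix (Fin 2) (Fin 2) F)
    have hPiP : Pi' * Pm = 1 := by simp only [Pi', Pm, ← Units.val_mul, inv_mul_cancel, Units.val_one]
    have hPPi : Pm * Pi' = 1 := by simp only [Pi', Pm, ← Units.val_mul, mul_inv_cancel, Units.val_one]
    have hPiP' : (Pm.map φ)ᵀ * (Pi'.map φ)ᵀ = 1 := by
      rw [← Matrix.transpose_mul, ← Matrix.map_mul, hPiP, Matrix.map_one _ φ.map_zero φ.map_one,
        Matrix.transpose_one]
    have hPPi' : (Pi'.map φ)ᵀ * (Pm.map φ)ᵀ = 1 := by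
      rw [← Matrix.transpose_mul, ← Matrix.map_mul, hPPi, Matrix.map_one _ φ.map_zero φ.map_one,
        Matrix.transpose_one]
    have key : ((((Ψ g : GL (Fin 2) F) : Matrix (Fin 2) (Fin 2) F)).map φ)ᵀ *
        ((Ψ g : GL (Fin 2) F) : Matrix (Fin 2) (Fin 2) F) =
        (Pi'.map φ)ᵀ * ((2 : F) • ((G.map φ)ᵀ * (sw : GL (Fin 2) F) * G)) * Pi' := by
      show ((Pm * G * Pi').map φ)ᵀ * (Pm * G * Pi') = _
      rw [Matrix.map_mul, Matrix.map_mul, Matrix.transpose_mul, Matrix.transpose_mul]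
      calc _ = (Pi'.map φ)ᵀ * ((G.map φ)ᵀ * ((Pm.map φ)ᵀ * Pm) * G) * Pi' := by
            simp only [Matrix.mul_assoc]
        _ = _ := by rw [hPP, Matrix.mul_smul, Matrix.smul_mul]
    have h1' : (1 : Matrix (Fin 2) (Fin 2) F) =
        (Pi'.map φ)ᵀ * ((2 : F) • ((sw : GL (Fin 2) F) : Matrix (Fin 2) (Fin 2) F)) * Pi' := by
      rw [← hPP, ← Matrix.mul_assoc, hPPi', Matrix.one_mul, hPPi]
    rw [mem_UGI, key]
    constructor
    · intro h0
      rw [h1'] at h0
      have h' := congrArg (fun M => (Pm.map φ)ᵀ * M * Pm) h0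
      simp only [← Matrix.mul_assoc, hPiP', Matrix.one_mul] at h'
      simp only [Matrix.mul_assoc, hPiP, Matrix.mul_one] at h'
      have := smul_right_injective _ h2 h'
      simpa only [Matrix.mul_assoc] using this
    · intro h0
      rw [h0, ← h1']
  have hdgU : ∀ a b : Fˣ, Ψ (dg a b) ∈ UGI φ (Fin 2) ↔ φ (a : F) * (b : F) = 1 := by
    intro a b
    rw [hmemU, coe_dg, coe_sw]
    constructor
    · intro h0
      have := congrFun (congrFun h0 0) 1
      simpa [Matrix.mul_apply, Fin.sum_univ_two] using this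
    · intro h0
      have h0' : φ (b : F) * (a : F) = 1 := by
        have := congrArg φ h0
        rw [map_mul, hφ2, map_one] at this
        rw [← this]; ring
      ext i j
      fin_cases i <;> fin_cases j <;> simp [Matrix.mul_apply, Fin.sum_univ_two, h0, h0']
  have hswU : Ψ sw ∈ UGI φ (Fin 2) := by
    rw [hmemU, coe_sw]
    ext i j
    fin_cases i <;> fin_cases j <;> simp [Matrix.mul_apply, Fin.sum_univ_two]
  have hsw2 : (sw : GL (Fin 2) F) * sw = 1 := Units.ext (by
    rw [Units.val_mul, coe_sw]; ext i j; fin_cases i <;> fin_cases j <;> simp [Matrix.mul_apply, Fin.sum_univ_two])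
  have hswdg : ∀ a b : Fˣ, sw * dg a b = dg b a * sw := fun a b => Units.ext (by
    rw [Units.val_mul, Units.val_mul, coe_sw, coe_dg, coe_dg]
    ext i j; fin_cases i <;> fin_cases j <;> simp [Matrix.mul_apply, Fin.sum_univ_two])
  let C : Subgroup (GL (Fin 2) F) :=
    { carrier := {g | ∃ a b : Fˣ, g = dg a b ∧ φ (a : F) * (b : F) = 1 ∧ ∃ k : ℕ, a ^ 2 ^ k = 1}
      one_mem' := ⟨1, 1, Units.ext (by rw [coe_dg, Units.val_one]; ext i j; fin_cases i <;> fin_cases j <;> simp),
        by simp, 0, by simp⟩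
      mul_mem' := by
        rintro _ _ ⟨a, b, rfl, hab, k, hk⟩ ⟨a', b', rfl, hab', k', hk'⟩
        refine ⟨_, _, dg_mul a b a' b', ?_, k + k', ?_⟩
        · rw [Units.val_mul, Units.val_mul, map_mul]
          calc φ (a : F) * φ (a' : F) * ((b : F) * (b' : F)) = (φ (a : F) * (b : F)) * (φ (a' : F) * (b' : F)) := by ring
            _ = 1 := by rw [hab, hab', mul_one]
        · rw [mul_pow]
          conv_lhs => rw [pow_add, pow_mul, hk, one_pow, one_mul, mul_comm, pow_mul, hk', one_pow]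
      inv_mem' := by
        rintro _ ⟨a, b, rfl, hab, k, hk⟩
        refine ⟨a⁻¹, b⁻¹, Units.ext rfl, ?_, k, by rw [inv_pow, hk, inv_one]⟩
        rw [Units.val_inv_eq_inv_val, Units.val_inv_eq_inv_val, map_inv₀, ← mul_inv, hab, inv_one] }
  have hswap : ∀ g ∈ C, sw * g * sw ∈ C := by
    rintro _ ⟨a, b, rfl, hab, k, hk⟩
    refine ⟨b, a, by rw [hswdg, mul_assoc, hsw2, mul_one], ?_, k, ?_⟩
    · have := congrArg φ hab
      rw [map_mul, hφ2, map_one] at this
      rw [← this]; ring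
    · apply Units.ext
      have hb : (b : F) = (φ (a : F))⁻¹ := eq_inv_of_mul_eq_one_right hab
      rw [Units.val_pow_eq_pow_val, hb, inv_pow, ← map_pow, ← Units.val_pow_eq_pow_val, hk]
      simp
  let T0 : Subgroup (GL (Fin 2) F) :=
    { carrier := {g | g ∈ C ∨ g * sw ∈ C}
      one_mem' := Or.inl C.one_mem
      mul_mem' := by
        rintro a b (ha | ha) (hb | hb)
        · exact Or.inl (C.mul_mem ha hb)
        · exact Or.inr (by rw [mul_assoc]; exact C.mul_mem ha hb)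
        · refine Or.inr ?_
          have := C.mul_mem ha (hswap b hb)
          convert this using 1
          calc a * b * sw = a * (sw * sw) * b * sw := by rw [hsw2, mul_one]
            _ = a * sw * (sw * b * sw) := by group
        · refine Or.inl ?_
          have := C.mul_mem ha (hswap _ hb)
          convert this using 1
          calc a * b = a * (sw * sw) * b * (sw * sw) := by rw [hsw2, mul_one, mul_one]
            _ = a * sw * (sw * (b * sw) * sw) := by group
      inv_mem' := by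
        rintro a (ha | ha)
        · exact Or.inl (C.inv_mem ha)
        · refine Or.inr ?_
          have := hswap _ (C.inv_mem ha)
          convert this using 1
          rw [_root_.mul_inv_rev, inv_eq_of_mul_eq_one_right hsw2, ← mul_assoc, hsw2, one_mul] }
  have hT0 : ∀ g, g ∈ T0 ↔ g ∈ C ∨ g * sw ∈ C := fun g => Iff.rfl
  have hswT : sw ∈ T0 := Or.inr (by rw [hsw2]; exact C.one_mem)
  have hT02 : ∀ t ∈ T0, ∃ k : ℕ, t ^ 2 ^ k = 1 := by
    have hC2 : ∀ t ∈ C, ∃ k : ℕ, t ^ 2 ^ k = 1 := by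
      rintro _ ⟨a, b, rfl, hab, k, hk⟩
      refine ⟨k, ?_⟩
      have hb : b ^ 2 ^ k = 1 := by
        apply Units.ext
        have hb : (b : F) = (φ (a : F))⁻¹ := eq_inv_of_mul_eq_one_right hab
        rw [Units.val_pow_eq_pow_val, hb, inv_pow, ← map_pow, ← Units.val_pow_eq_pow_val, hk]
        simp
      have hpow : ∀ n : ℕ, dg a b ^ n = dg (a ^ n) (b ^ n) := by
        intro n
        induction n with
        | zero => simp only [pow_zero]; exact Units.ext (by rw [coe_dg, Units.val_one]; ext i j; fin_cases i <;> fin_cases j <;> simp)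
        | succ n ih => rw [pow_succ, ih, dg_mul, pow_succ, pow_succ]
      rw [hpow, hk, hb]
      exact Units.ext (by rw [coe_dg, Units.val_one]; ext i j; fin_cases i <;> fin_cases j <;> simp)
    rintro t (ht | ht)
    · exact hC2 t ht
    · obtain ⟨k, hk⟩ := hC2 _ (C.mul_mem ht (hswap _ ht))
      refine ⟨k + 1, ?_⟩
      rw [pow_succ', pow_mul, pow_two]
      convert hk using 2
      calc t * t = t * (sw * sw) * t * (sw * sw) := by rw [hsw2, mul_one, mul_one]
        _ = t * sw * (sw * (t * sw) * sw) := by group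
  have hm1C : (-1 : GL (Fin 2) F) ∈ C := ⟨-1, -1, Units.ext (by
      rw [coe_dg, Units.val_neg, Units.val_one]; ext i j; fin_cases i <;> fin_cases j <;> simp),
    by simp [hm1], 1, by simp⟩
  obtain ⟨i, hi⟩ : IsSquare (-1 : F) := FiniteField.isSquare_neg_one_iff.mpr (by omega)
  have hi0 : i ≠ 0 := by
    rintro rfl
    simp at hi
  set I := Units.mk0 i hi0
  have hφi : φ i = i := by
    obtain ⟨r, hr⟩ : 4 ∣ q - 1 := by omega
    rw [hq, show q = 4 * r + 1 by omega, pow_succ, pow_mul, show i ^ 4 = (i * i) * (i * i) by ring, ← hi]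
    simp
  have hDI : dg I (-I) ∈ C := by
    refine ⟨I, -I, rfl, by rw [Units.val_mk0, Units.val_neg, Units.val_mk0, hφi, mul_neg, ← hi, neg_neg], 2, ?_⟩
    apply Units.ext
    rw [Units.val_pow_eq_pow_val, Units.val_mk0, Units.val_one, show (2 : ℕ) ^ 2 = 4 by norm_num,
      show i ^ 4 = (i * i) * (i * i) by ring, ← hi]
    simp
  have hE : dg a1 (a1⁻¹ * (-1)) * sw ∈ T0 := by
    refine Or.inr ?_
    rw [mul_assoc, hsw2, mul_one]
    refine ⟨_, _, rfl, ?_, ha1⟩
    rw [Units.val_mul, Units.val_neg, Units.val_one, hu]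
    simp
  have hne : ∀ l : Fˣ, dg I (-I) ≠ scalarU (Fin 2) l := by
    intro l h0
    have e0 := congrArg (fun M : GL (Fin 2) F => (M : Matrix (Fin 2) (Fin 2) F) 0 0) h0
    have e1 := congrArg (fun M : GL (Fin 2) F => (M : Matrix (Fin 2) (Fin 2) F) 1 1) h0
    simp [coe_dg, coe_scalarU] at e0 e1
    have : (2 : F) * i = 0 := by simp only [I, Units.val_mk0] at e0 e1; linear_combination e0 - e1
    exact hi0 (by simpa [h2] using this)
  -- commutants of non-scalar diagonal matrices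
  have hcomm : ∀ (g : GL (Fin 2) F) (a b : Fˣ), a ≠ b → g * dg a b = dg a b * g → ∃ a' b', g = dg a' b' := by
    intro g a b hab h0
    have h0' := congrArg (fun M : GL (Fin 2) F => (M : Matrix (Fin 2) (Fin 2) F)) h0
    simp only [Units.val_mul, coe_dg] at h0'
    have hab' : (a : F) - (b : F) ≠ 0 := sub_ne_zero.mpr (fun h => hab (Units.ext h))
    have e01 := congrFun (congrFun h0' 0) 1
    have e10 := congrFun (congrFun h0' 1) 0
    simp [Matrix.mul_apply, Fin.sum_univ_two] at e01 e10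
    have z01 : (g : Matrix (Fin 2) (Fin 2) F) 0 1 = 0 :=
      (mul_eq_zero.mp (show ((a : F) - b) * (g : Matrix (Fin 2) (Fin 2) F) 0 1 = 0 by linear_combination -e01)).resolve_left hab'
    have z10 : (g : Matrix (Fin 2) (Fin 2) F) 1 0 = 0 :=
      (mul_eq_zero.mp (show ((a : F) - b) * (g : Matrix (Fin 2) (Fin 2) F) 1 0 = 0 by linear_combination e10)).resolve_left hab'
    have hdet := (Matrix.GeneralLinearGroup.det g).ne_zero
    rw [Matrix.GeneralLinearGroup.val_det_apply, Matrix.det_fin_two, z01, zero_mul, sub_zero] at hdet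
    exact ⟨Units.mk0 _ (left_ne_zero_of_mul hdet), Units.mk0 _ (right_ne_zero_of_mul hdet), Units.ext (by
      rw [coe_dg]; ext i j; fin_cases i <;> fin_cases j <;> simp [z01, z10])⟩
  -- elements normalising `T0` are monomial
  have hmono : ∀ g : GL (Fin 2) F, (∀ t ∈ T0, g * t * g⁻¹ ∈ T0) →
      ∃ a b, g = dg a b ∨ g * sw = dg a b := by
    intro g hg
    obtain ⟨b2, hb2⟩ : ∃ b : Fˣ, φ (a2 : F) * (b : F) = 1 :=
      ⟨(Units.map φ.toMonoidHom a2)⁻¹, by
        rw [Units.val_inv_eq_inv_val]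
        exact mul_inv_cancel₀ ((map_ne_zero φ).mpr a2.ne_zero)⟩
    have hc2 : dg a2 b2 ∈ C := ⟨a2, b2, rfl, hb2, ha2⟩
    have hne2 : a2 * a2 ≠ b2 * b2 := by
      intro h0
      apply hu2
      have h0' : (a2 : F) * a2 = (b2 : F) * b2 := by simpa using congrArg Units.val h0
      rw [hq] at hb2
      calc (a2 : F) ^ (2 * (q + 1)) = ((a2 : F) * a2) * ((a2 : F) ^ q) ^ 2 := by ring
        _ = ((a2 : F) ^ q * (b2 : F)) ^ 2 := by rw [h0']; ring
        _ = 1 := by rw [hb2, one_pow]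
    set c' := g * dg a2 b2 * g⁻¹ with hc'
    rcases hg _ (Or.inl hc2) with hcC | hcC
    swap
    · exfalso
      obtain ⟨a, b, hab, -, -⟩ := hcC
      have e : c' = dg a b * sw := by rw [← hab, mul_assoc, hsw2, mul_one]
      have hs : dg (a2 * a2) (b2 * b2) = dg (a * b) (b * a) := by
        have h1 : c' * c' = dg (a * b) (b * a) := by
          rw [e, mul_assoc, ← mul_assoc sw, hswdg, mul_assoc, hsw2, mul_one, dg_mul]
        have hsc : scalarU (Fin 2) (a * b) = dg (a * b) (b * a) := Units.ext (by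
          rw [coe_scalarU, coe_dg, mul_comm b a]
          ext i j; fin_cases i <;> fin_cases j <;> simp)
        calc dg (a2 * a2) (b2 * b2) = g⁻¹ * (c' * c' * g) := by rw [← dg_mul, hc']; group
          _ = dg (a * b) (b * a) := by rw [h1, ← hsc, scalarU_comm, inv_mul_cancel_left]
      have h00 := congrArg (fun M : GL (Fin 2) F => (M : Matrix (Fin 2) (Fin 2) F) 0 0) hs
      have h11 := congrArg (fun M : GL (Fin 2) F => (M : Matrix (Fin 2) (Fin 2) F) 1 1) hs
      simp [coe_dg] at h00 h11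
      exact hne2 (Units.ext (by push_cast; rw [h00, h11, mul_comm]))
    obtain ⟨a, b, hab, -, -⟩ := hcC
    have hab2 : a * a ≠ b * b := by
      intro h0
      apply hne2
      have h1 : c' * c' = scalarU (Fin 2) (a * a) := by
        show g * dg a2 b2 * g⁻¹ * (g * dg a2 b2 * g⁻¹) = _
        rw [hab, dg_mul, ← h0]
        apply Units.ext
        rw [coe_scalarU, coe_dg]
        ext i j; fin_cases i <;> fin_cases j <;> simp
      have h3 : dg (a2 * a2) (b2 * b2) = scalarU (Fin 2) (a * a) := by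
        calc dg (a2 * a2) (b2 * b2) = g⁻¹ * (c' * c' * g) := by rw [← dg_mul, hc']; group
          _ = _ := by rw [h1, scalarU_comm, inv_mul_cancel_left]
      have h00 := congrArg (fun M : GL (Fin 2) F => (M : Matrix (Fin 2) (Fin 2) F) 0 0) h3
      have h11 := congrArg (fun M : GL (Fin 2) F => (M : Matrix (Fin 2) (Fin 2) F) 1 1) h3
      simp [coe_dg, coe_scalarU] at h00 h11
      exact Units.ext (by push_cast; rw [h00, h11])
    set D := dg I (-I)
    have hKD : g * D * g⁻¹ * dg (a * a) (b * b) = dg (a * a) (b * b) * (g * D * g⁻¹) := by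
      have e : dg (a * a) (b * b) = g * dg (a2 * a2) (b2 * b2) * g⁻¹ := by
        rw [← dg_mul, ← hab, ← dg_mul]; group
      rw [e]
      calc g * D * g⁻¹ * (g * dg (a2 * a2) (b2 * b2) * g⁻¹) = g * (D * dg (a2 * a2) (b2 * b2)) * g⁻¹ := by group
        _ = g * (dg (a2 * a2) (b2 * b2) * D) * g⁻¹ := by
          rw [show D * dg (a2 * a2) (b2 * b2) = dg (a2 * a2) (b2 * b2) * D by
            simp only [D, dg_mul]; rw [mul_comm I, mul_comm (-I)]]
        _ = _ := by group
    obtain ⟨u, v, huv⟩ := hcomm _ _ _ hab2 hKD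
    have hDD : D * D = scalarU (Fin 2) (-1) := by
      simp only [D, dg_mul]
      apply Units.ext
      rw [coe_scalarU, coe_dg]
      ext r t; fin_cases r <;> fin_cases t <;> simp [I, ← hi]
    have huv2 : dg (u * u) (v * v) = scalarU (Fin 2) (-1) := by
      rw [← dg_mul, ← huv]
      calc g * D * g⁻¹ * (g * D * g⁻¹) = g * (D * D) * g⁻¹ := by group
        _ = _ := by rw [hDD, ← scalarU_comm, mul_inv_cancel_right]
    have hu00 := congrArg (fun M : GL (Fin 2) F => (M : Matrix (Fin 2) (Fin 2) F) 0 0) huv2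
    have hu11 := congrArg (fun M : GL (Fin 2) F => (M : Matrix (Fin 2) (Fin 2) F) 1 1) huv2
    simp [coe_dg, coe_scalarU] at hu00 hu11
    have hu' : (u : F) = i ∨ (u : F) = -i := mul_self_eq_mul_self_iff.mp (hu00.trans hi)
    have hv' : (v : F) = i ∨ (v : F) = -i := mul_self_eq_mul_self_iff.mp (hu11.trans hi)
    have hgD : g * D = dg u v * g := mul_inv_eq_iff_eq_mul.mp huv
    have huvne : u ≠ v := by
      intro h0
      subst h0
      have hsc : dg u u = scalarU (Fin 2) u := Units.ext (by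
        rw [coe_dg, coe_scalarU]; ext r t; fin_cases r <;> fin_cases t <;> simp)
      rw [hsc, scalarU_comm] at hgD
      exact hne u (mul_left_cancel hgD)
    have hIne : I ≠ -I := by
      intro h0
      have : (2 : F) * i = 0 := by
        have := congrArg Units.val h0; simp [I] at this; linear_combination this
      exact hi0 (by simpa [h2] using this)
    rcases hu' with hu' | hu' <;> rcases hv' with hv' | hv'
    · exact absurd (Units.ext (hu'.trans hv'.symm)) huvne
    · have e1 : u = I := Units.ext hu'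
      have e2 : v = -I := Units.ext (by simpa [I] using hv')
      rw [e1, e2] at hgD
      obtain ⟨a', b', h'⟩ := hcomm g I (-I) hIne hgD
      exact ⟨a', b', Or.inl h'⟩
    · have e1 : u = -I := Units.ext (by simpa [I] using hu')
      have e2 : v = I := Units.ext hv'
      rw [e1, e2] at hgD
      have hgD2 : g * sw * dg (-I) I = dg (-I) I * (g * sw) := by
        rw [mul_assoc, hswdg, ← mul_assoc, hgD, mul_assoc]
      obtain ⟨a', b', h'⟩ := hcomm (g * sw) (-I) I hIne.symm hgD2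
      exact ⟨a', b', Or.inr h'⟩
    · exact absurd (Units.ext (hu'.trans hv'.symm)) huvne
  refine ⟨T0.map Ψ.toMonoidHom, ⟨-1, Or.inl hm1C, ?_⟩, ?_, ?_, ?_, ⟨Ψ (dg I (-I)), ⟨⟨_, Or.inl hDI, rfl⟩, ?_⟩, ?_⟩, ?_, ?_⟩
  · show P * -1 * P⁻¹ = -1
    rw [mul_neg, neg_mul, mul_one, mul_inv_cancel]
  · rintro _ ⟨t, ht, rfl⟩
    rcases ht with ⟨a, b, rfl, hab, -⟩ | ⟨a, b, hab', hab, -⟩
    · exact (hdgU a b).mpr hab
    · have e : t = dg a b * sw := by rw [← hab', mul_assoc, hsw2, mul_one]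
      rw [e, map_mul]
      exact mul_mem ((hdgU a b).mpr hab) hswU
  · rintro _ ⟨t, ht, rfl⟩
    obtain ⟨k, hk⟩ := hT02 t ht
    exact ⟨k, by rw [← map_pow, hk, map_one]⟩
  · intro a ha
    set a0 := Ψ.symm a with ha0
    have hd1 : Ψ (dg I (-I)) ∈ T0.map Ψ.toMonoidHom ⊓ detKer (Fin 2) F := by
      refine ⟨⟨_, Or.inl hDI, rfl⟩, ?_⟩
      show DetOne (P * dg I (-I) * P⁻¹)
      rw [DetOne, PronormalPSL.det_conj, coe_dg, Matrix.det_fin_two_of]
      simp [I, ← hi]
    have hE1 : Ψ (dg a1 (a1⁻¹ * (-1)) * sw) ∈ T0.map Ψ.toMonoidHom ⊓ detKer (Fin 2) F := by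
      refine ⟨⟨_, hE, rfl⟩, ?_⟩
      show DetOne (P * (dg a1 (a1⁻¹ * (-1)) * sw) * P⁻¹)
      rw [DetOne, PronormalPSL.det_conj, Units.val_mul, coe_dg, coe_sw, Matrix.det_mul, Matrix.det_fin_two_of,
        Matrix.det_fin_two_of]
      simp
    have c1 : a0 * dg I (-I) = dg I (-I) * a0 := by
      apply Ψ.injective
      rw [map_mul, map_mul, ha0, MulEquiv.apply_symm_apply, ha _ hd1]
    have c2 : a0 * (dg a1 (a1⁻¹ * (-1)) * sw) = (dg a1 (a1⁻¹ * (-1)) * sw) * a0 := by
      apply Ψ.injective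
      rw [map_mul Ψ a0, map_mul Ψ _ a0, ha0, MulEquiv.apply_symm_apply, ha _ hE1]
    have hIne : I ≠ -I := by
      intro h0
      have : (2 : F) * i = 0 := by
        have := congrArg Units.val h0; simp [I] at this; linear_combination this
      exact hi0 (by simpa [h2] using this)
    obtain ⟨p, r, hpr⟩ := hcomm a0 I (-I) hIne c1
    rw [hpr, mul_assoc (dg a1 _) sw, hswdg, ← mul_assoc, ← mul_assoc, dg_mul, dg_mul] at c2
    have hpr' : p = r := by
      have := congrArg (fun M : GL (Fin 2) F => (M : Matrix (Fin 2) (Fin 2) F) 0 1) c2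
      simp [coe_dg, coe_sw, Matrix.mul_apply, Fin.sum_univ_two] at this
      exact Units.ext (mul_left_cancel₀ a1.ne_zero (by linear_combination this))
    refine ⟨p, ?_⟩
    have hsc : dg p p = scalarU (Fin 2) p := Units.ext (by
      rw [coe_dg, coe_scalarU]; ext r t; fin_cases r <;> fin_cases t <;> simp)
    rw [← hpr', hsc] at hpr
    calc a = Ψ a0 := (Ψ.apply_symm_apply a).symm
      _ = P * scalarU (Fin 2) p * P⁻¹ := by rw [hpr]; rfl
      _ = scalarU (Fin 2) p := by rw [← scalarU_comm, mul_inv_cancel_right]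
  · show DetOne (P * dg I (-I) * P⁻¹)
    rw [DetOne, PronormalPSL.det_conj, coe_dg, Matrix.det_fin_two_of]
    simp [I, ← hi]
  · intro h0
    rw [← map_mul, MulEquiv.map_eq_one_iff, dg_mul] at h0
    have := congrArg (fun M : GL (Fin 2) F => (M : Matrix (Fin 2) (Fin 2) F) 0 0) h0
    simp [coe_dg, I, ← hi] at this
    exact h2 (by linear_combination -this)
  · intro A hAU hA
    set A0 := Ψ.symm A with hA0
    have hA0n : ∀ t ∈ T0, A0 * t * A0⁻¹ ∈ T0 := by
      intro t ht
      obtain ⟨s, hs, hse⟩ := hA _ ⟨t, ht, rfl⟩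
      have : s = A0 * t * A0⁻¹ := Ψ.injective (by
        rw [map_mul, map_mul, map_inv, hA0, MulEquiv.apply_symm_apply]; exact hse)
      exact this ▸ hs
    -- diagonal normalisers
    have hdiag : ∀ B : GL (Fin 2) F, (∀ t ∈ T0, B * t * B⁻¹ ∈ T0) → Ψ B ∈ UGI φ (Fin 2) →
        ∀ a b, B = dg a b → ∃ N : ℕ, IsScalarU (B ^ 2 ^ N) := by
      rintro B hB hBU a b rfl
      have hab := (hdgU a b).mp hBU
      have hk := T0.mul_mem (hB sw hswT) hswT
      have e : dg a b * sw * (dg a b)⁻¹ * sw = dg (a * b⁻¹) (b * a⁻¹) := by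
        rw [show (dg a b)⁻¹ = dg a⁻¹ b⁻¹ from Units.ext rfl, mul_assoc (dg a b) sw, hswdg, ← mul_assoc,
          dg_mul, mul_assoc, hsw2, mul_one]
      rw [e] at hk
      obtain ⟨k, hk'⟩ := hT02 _ hk
      refine ⟨k, a ^ 2 ^ k, ?_⟩
      have hpow : ∀ (u v : Fˣ) (n : ℕ), dg u v ^ n = dg (u ^ n) (v ^ n) := by
        intro u v n
        induction n with
        | zero => simp only [pow_zero]; exact Units.ext (by rw [coe_dg, Units.val_one]; ext i j; fin_cases i <;> fin_cases j <;> simp)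
        | succ n ih => rw [pow_succ, ih, dg_mul, pow_succ, pow_succ]
      rw [hpow] at hk' ⊢
      have h00 := congrArg (fun M : GL (Fin 2) F => (M : Matrix (Fin 2) (Fin 2) F) 0 0) hk'
      simp [coe_dg] at h00
      have : b ^ 2 ^ k = a ^ 2 ^ k := by
        apply Units.ext
        rw [Units.val_pow_eq_pow_val, Units.val_pow_eq_pow_val]
        rw [mul_pow, inv_pow, mul_inv_eq_one₀ (pow_ne_zero _ b.ne_zero)] at h00
        exact h00.symm
      rw [this]
      exact Units.ext (by rw [coe_dg, coe_scalarU]; ext r t; fin_cases r <;> fin_cases t <;> simp)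
    have hA02 : ∃ a b, A0 * A0 = dg a b := by
      obtain ⟨a, b, h | h⟩ := hmono A0 hA0n
      · exact ⟨_, _, by rw [h, dg_mul]⟩
      · have e : A0 = dg a b * sw := by rw [← h, mul_assoc, hsw2, mul_one]
        exact ⟨_, _, by rw [e, mul_assoc, ← mul_assoc sw, hswdg, mul_assoc, hsw2, mul_one, dg_mul]⟩
    obtain ⟨a, b, hab⟩ := hA02
    obtain ⟨N, l, hl⟩ := hdiag (A0 * A0) (fun t ht => by
        have := hA0n _ (hA0n t ht)
        convert this using 1
        group)
      (by rw [map_mul, hA0, MulEquiv.apply_symm_apply]; exact mul_mem hAU hAU) a b hab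
    refine ⟨N + 1, l, ?_⟩
    rw [pow_succ', pow_mul, pow_two]
    calc (A * A) ^ 2 ^ N = Ψ ((A0 * A0) ^ 2 ^ N) := by
          rw [map_pow, map_mul, hA0, MulEquiv.apply_symm_apply]
      _ = P * scalarU (Fin 2) l * P⁻¹ := by rw [hl]; rfl
      _ = _ := by rw [← scalarU_comm, mul_inv_cancel_right]
  · intro A hAU hA hA2
    set A0 := Ψ.symm A with hA0
    have hA0n : ∀ t ∈ T0, A0 * t * A0⁻¹ ∈ T0 := by
      intro t ht
      obtain ⟨s, hs, hse⟩ := hA _ ⟨t, ht, rfl⟩
      have : s = A0 * t * A0⁻¹ := Ψ.injective (by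
        rw [map_mul, map_mul, map_inv, hA0, MulEquiv.apply_symm_apply]; exact hse)
      exact this ▸ hs
    have hA02 : ∃ k : ℕ, A0 ^ 2 ^ k = 1 := by
      obtain ⟨k, hk⟩ := hA2
      exact ⟨k, by rw [hA0, ← map_pow, hk, map_one]⟩
    have hdiag : ∀ B : GL (Fin 2) F, (∃ k : ℕ, B ^ 2 ^ k = 1) → Ψ B ∈ UGI φ (Fin 2) →
        ∀ a b, B = dg a b → B ∈ C := by
      rintro B ⟨k, hk⟩ hBU a b rfl
      refine ⟨a, b, rfl, (hdgU a b).mp hBU, k, ?_⟩
      have hpow : ∀ (u v : Fˣ) (n : ℕ), dg u v ^ n = dg (u ^ n) (v ^ n) := by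
        intro u v n
        induction n with
        | zero => simp only [pow_zero]; exact Units.ext (by rw [coe_dg, Units.val_one]; ext i j; fin_cases i <;> fin_cases j <;> simp)
        | succ n ih => rw [pow_succ, ih, dg_mul, pow_succ, pow_succ]
      rw [hpow] at hk
      have h00 := congrArg (fun M : GL (Fin 2) F => (M : Matrix (Fin 2) (Fin 2) F) 0 0) hk
      simp [coe_dg] at h00
      exact Units.ext (by simpa using h00)
    refine ⟨A0, ?_, Ψ.apply_symm_apply A⟩
    obtain ⟨a, b, h | h⟩ := hmono A0 hA0n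
    · exact Or.inl (hdiag A0 hA02 (by rw [hA0, MulEquiv.apply_symm_apply]; exact hAU) a b h)
    · refine Or.inr (hdiag (A0 * sw) ?_ (by rw [map_mul, hA0, MulEquiv.apply_symm_apply]; exact mul_mem hAU hswU) a b h)
      exact mul_pow_two_eq_one hT02 hA02 (fun y => conj_mem_iff hA0n y) hswT

end CfsgLib.PronormalPSU
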