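import Cfsg.Agent.Lib.PronormalPSU.Frames
import Cfsg.Agent.Lib.Classical.Herm.Field
import Cfsg.Agent.Lib.AutPSL.Root
import Cfsg.Agent.Lib.SymTwo.Pronormal
import Cfsg.Prelude.Def_Classical

/-! In characteristic two every odd index subgroup of `SU_n(q)`, `n` even, is pronormal. -/

set_option autoImplicit false
set_option linter.style.haveILetI false

namespace CfsgLib.PronormalPSU

open Matrix

/-- A criterion for the normaliser of a Sylow subgroup to normalise an overgroup. -/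
theorem normalizes_overgroup {G : Type*} [Group G] [Finite G] {p : ℕ} [Fact p.Prime] (P : Sylow p G)
    (H : Subgroup G) (hPH : (P : Subgroup G) ≤ H)
    (habel : ∀ a ∈ Subgroup.normalizer ((P : Subgroup G) : Set G),
      ∀ c ∈ Subgroup.normalizer ((P : Subgroup G) : Set G), a * c * a⁻¹ * c⁻¹ ∈ P)
    (hcover : ∀ h : G, ∀ b ∈ Subgroup.normalizer ((P : Subgroup G) : Set G),
      ∃ t ∈ Subgroup.normalizer ((P : Subgroup G) : Set G),
        b * t⁻¹ ∈ P ∧ h⁻¹ * t * h ∈ Subgroup.normalizer ((P : Subgroup G) : Set G))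
    {b : G} (hb : b ∈ Subgroup.normalizer ((P : Subgroup G) : Set G)) : ∀ h ∈ H, b * h * b⁻¹ ∈ H := by
  let P' : Sylow p H := P.subtype hPH
  set N : Subgroup H := Subgroup.normalClosure ((P' : Subgroup H) : Set H) with hN
  have hP'N : (P' : Subgroup H) ≤ N := Subgroup.le_normalClosure
  have hNH : ∀ c : H, c ∈ N → b * (c : G) * b⁻¹ ∈ H := by
    intro c hc
    induction hc using Subgroup.closure_induction with
    | mem x hx =>
      obtain ⟨y, hy, hconj⟩ := Group.mem_conjugatesOfSet_iff.mp hx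
      obtain ⟨k, rfl⟩ := isConj_iff.mp hconj
      obtain ⟨t, -, hu, ht2⟩ := hcover k b hb
      have hy' : (y : G) ∈ (P : Subgroup G) := hy
      have h2 := (Subgroup.mem_normalizer_iff.mp ht2 y).mp hy'
      have e : b * ((k * y * k⁻¹ : H) : G) * b⁻¹ =
          (b * t⁻¹) * ((k : G) * ((k : G)⁻¹ * t * k * y * ((k : G)⁻¹ * t * k)⁻¹) * (k : G)⁻¹) * (b * t⁻¹)⁻¹ := by
        rw [Subgroup.coe_mul, Subgroup.coe_mul, Subgroup.coe_inv]; group
      rw [e]
      exact H.mul_mem (H.mul_mem (hPH hu) (H.mul_mem (H.mul_mem k.2 (hPH h2)) (H.inv_mem k.2)))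
        (H.inv_mem (hPH hu))
    | one => simpa using H.one_mem
    | mul x y _ _ hx hy =>
      rw [Subgroup.coe_mul, show b * ((x : G) * y) * b⁻¹ = (b * x * b⁻¹) * (b * y * b⁻¹) by group]
      exact H.mul_mem hx hy
    | inv x _ hx =>
      rw [Subgroup.coe_inv, show b * (x : G)⁻¹ * b⁻¹ = (b * x * b⁻¹)⁻¹ by group]
      exact H.inv_mem hx
  intro h hh
  have htop := Sylow.normalizer_sup_eq_top' (N := N) P' hP'N
  have hmem : (⟨h, hh⟩ : H) ∈ Subgroup.normalizer ((P' : Subgroup H) : Set H) ⊔ N := htop ▸ Subgroup.mem_top _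
  obtain ⟨a, ha, c, hc, hac⟩ := Subgroup.mem_sup_of_normal_right.mp hmem
  have ha' : (a : G) ∈ Subgroup.normalizer ((P : Subgroup G) : Set G) := by
    rw [Subgroup.mem_normalizer_iff]
    intro x
    constructor
    · intro hx
      exact (Subgroup.mem_normalizer_iff.mp ha ⟨x, hPH hx⟩).mp hx
    · intro hx
      have hxH : x ∈ H := by
        have := H.mul_mem (H.mul_mem (H.inv_mem a.2) (hPH hx)) a.2
        convert this using 1; group
      exact (Subgroup.mem_normalizer_iff.mp ha ⟨x, hxH⟩).mpr hx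
  have hab : b * (a : G) * b⁻¹ ∈ H := by
    have := H.mul_mem (hPH (habel b hb a ha')) a.2
    convert this using 1; group
  have e : h = (a : G) * c := by rw [← Subgroup.coe_mul, hac]
  rw [e, show b * ((a : G) * c) * b⁻¹ = (b * a * b⁻¹) * (b * c * b⁻¹) by group]
  exact H.mul_mem hab (hNH c hc)

variable {F : Type*} [Field F] [Fintype F] [CharP F 2] {q n : ℕ}

theorem exists_norm_fixed (φ : F →+* F) (x : F) (hx : φ x = x) : ∃ μ, φ μ * μ = x := by
  haveI : Finite F := inferInstance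
  obtain ⟨μ, hμ⟩ : IsSquare x := FiniteField.isSquare_of_char_two (ringChar.eq F 2) x
  refine ⟨μ, ?_⟩
  have h : φ μ = μ := by
    have h1 : φ μ * φ μ = μ * μ := by rw [← map_mul, ← hμ, hx]
    rcases mul_self_eq_mul_self_iff.mp h1 with h | h
    · exact h
    · rwa [CharTwo.neg_eq] at h
  rw [h, hμ]

/-- The embedding into the antidiagonal model. -/
theorem exists_model (hF : Fintype.card F = q ^ 2) (hn : Even n) :
    ∃ θ : Cfsg.SU n F q →* GL (Fin n) F, Function.Injective θ ∧
      ∀ g, g ∈ θ.range ↔ g ∈ Frames.GJ (CfsgLib.Classical.Herm.qPow hF) n ∧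
        (g : Matrix (Fin n) (Fin n) F).det = 1 := by
  classical
  set φ := CfsgLib.Classical.Herm.qPow hF
  have hφ : ∀ x, φ (φ x) = x := CfsgLib.Classical.Herm.qPow_qPow hF
  obtain ⟨a, ha⟩ := CfsgLib.Classical.Herm.exists_qPow_ne hF
  have hc : a + φ a ≠ 0 := fun h => ha (by
    rw [← CharTwo.neg_eq (φ a)]
    exact (eq_neg_of_add_eq_zero_left h).symm)
  set b := a / (a + φ a) with hb
  have hbb : b + φ b = 1 := by
    rw [hb, map_div₀, map_add, hφ, add_comm (φ a) a, ← add_div, div_self hc]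
  obtain ⟨m, hm⟩ := hn
  let C : Matrix (Fin n) (Fin n) F := fun r k =>
    if (k : ℕ) < m then (if r = k ∨ r = k.rev then 1 else 0)
    else (if r = k then b else if r = k.rev then b + 1 else 0)
  have hcols : ∀ k l, (∑ r, φ (C r k) * C r l) = if k.rev = l then 1 else 0 := by
    intro k l
    have hne : k ≠ k.rev := fun h => Frames.rev_ne ⟨m, hm⟩ k h.symm
    have hsub : ∀ r, r ≠ k ∧ r ≠ k.rev → C r k = 0 := by
      intro r hr
      simp [C, hr.1, hr.2]
    rw [Finset.sum_eq_add k k.rev hne (fun r _ hr => by rw [hsub r hr, map_zero, zero_mul]) (by simp) (by simp)]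
    rcases eq_or_ne l k with rfl | hlk
    · rw [if_neg hne.symm]
      by_cases hk : (l : ℕ) < m
      · simp [C, hk, CharTwo.add_self_eq_zero]
      · simp only [C, if_neg hk, if_true, eq_self_iff_true, if_neg hne.symm, map_add, map_one]
        linear_combination hbb + CharTwo.add_self_eq_zero (φ b * b) + CharTwo.add_self_eq_zero (1 : F)
    rcases eq_or_ne l k.rev with rfl | hlk'
    · rw [if_pos rfl]
      by_cases hk : (k : ℕ) < m
      · have hk' : ¬ (k.rev : ℕ) < m := by rw [Fin.val_rev]; omega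
        simp only [C, if_pos hk, if_neg hk', Fin.rev_rev, if_neg hne, true_or, or_true, if_true, map_one, one_mul]
        linear_combination CharTwo.add_self_eq_zero b
      · have hk' : (k.rev : ℕ) < m := by rw [Fin.val_rev]; omega
        simp only [C, if_neg hk, if_pos hk', Fin.rev_rev, if_neg hne.symm, true_or, or_true, if_true, mul_one,
          map_add, map_one]
        linear_combination CharTwo.add_self_eq_zero (φ b)
    · rw [if_neg (Ne.symm hlk')]
      have h3 : k ≠ l.rev := fun h => hlk' (by rw [h, Fin.rev_rev])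
      have h4 : k.rev ≠ l.rev := fun h => hlk (Fin.rev_injective h).symm
      simp [C, Ne.symm hlk, h3, Ne.symm hlk', h4]
  let J : Matrix (Fin n) (Fin n) F := fun i k => if i.rev = k then 1 else 0
  have hCC : (C.map φ)ᵀ * C = J := by
    ext k l
    exact hcols k l
  have hdet : C.det ≠ 0 := by
    intro h0
    have h1 := congrArg Matrix.det hCC
    rw [Matrix.det_mul, h0, mul_zero] at h1
    have hJJ : J * J = 1 := by
      ext i k
      rw [Matrix.mul_apply, Finset.sum_eq_single i.rev, Matrix.one_apply]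
      · simp [J, Fin.rev_rev]
      · intro r _ hr
        simp [J, Ne.symm hr]
      · simp
    have h2 := congrArg Matrix.det hJJ
    rw [Matrix.det_mul, ← h1, Matrix.det_one, mul_zero] at h2
    exact zero_ne_one h2
  let T : GL (Fin n) F := Matrix.GeneralLinearGroup.mkOfDetNeZero C hdet
  let hs : (Fin n → F) → (Fin n → F) → F := fun u v => (φ ∘ u) ⬝ᵥ v
  have hTh : ∀ u v, hs ((T : Matrix (Fin n) (Fin n) F) *ᵥ u) ((T : Matrix (Fin n) (Fin n) F) *ᵥ v) =
      Frames.hJ φ u v := by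
    intro u v
    show (φ ∘ (C *ᵥ u)) ⬝ᵥ (C *ᵥ v) = _
    rw [show (φ ∘ (C *ᵥ u)) = (C.map φ) *ᵥ (φ ∘ u) from funext fun i => RingHom.map_mulVec φ C u i,
      Matrix.dotProduct_mulVec, ← Matrix.mulVec_transpose, Matrix.mulVec_mulVec, ← Matrix.vecMul_transpose,
      Matrix.transpose_mul, Matrix.transpose_transpose, hCC, ← Matrix.dotProduct_mulVec]
    simp only [dotProduct, Frames.hJ, Function.comp_apply, J, Matrix.mulVec]
    refine Finset.sum_congr rfl fun i _ => ?_
    simp
  have hherm : ∀ u v, Cfsg.hermForm n F q u v = hs v u := fun u v => by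
    simp only [Cfsg.hermForm, hs, dotProduct, Function.comp_apply]
    exact Finset.sum_congr rfl fun i _ => mul_comm _ _
  let ι0 : Cfsg.SU n F q →* GL (Fin n) F := (Matrix.SpecialLinearGroup.toGL).comp (Cfsg.SU n F q).subtype
  let θ : Cfsg.SU n F q →* GL (Fin n) F := (MulAut.conj T⁻¹).toMonoidHom.comp ι0
  refine ⟨θ, (MulAut.conj T⁻¹).injective.comp
    (Matrix.SpecialLinearGroup.toGL_injective.comp Subtype.val_injective), fun g => ⟨?_, ?_⟩⟩
  · rintro ⟨s, rfl⟩
    have hval : θ s = T⁻¹ * ι0 s * T := by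
      show T⁻¹ * ι0 s * T⁻¹⁻¹ = _
      rw [inv_inv]
    rw [hval]
    refine ⟨fun u v => ?_, ?_⟩
    · rw [← hTh, Matrix.mulVec_mulVec, Matrix.mulVec_mulVec, ← Units.val_mul,
        show T * (T⁻¹ * ι0 s * T) = ι0 s * T by group, Units.val_mul, ← Matrix.mulVec_mulVec,
        ← Matrix.mulVec_mulVec, ← hTh u v]
      have := s.2 ((T : Matrix (Fin n) (Fin n) F) *ᵥ v) ((T : Matrix (Fin n) (Fin n) F) *ᵥ u)
      rw [hherm, hherm] at this
      exact this
    · rw [Units.val_mul, Units.val_mul, Matrix.det_units_conj']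
      exact s.1.2
  · rintro ⟨hg, hgdet⟩
    have hdet1 : ((T * g * T⁻¹ : GL (Fin n) F) : Matrix (Fin n) (Fin n) F).det = 1 := by
      rw [Units.val_mul, Units.val_mul, Matrix.det_units_conj, hgdet]
    let s0 : Matrix.SpecialLinearGroup (Fin n) F := ⟨_, hdet1⟩
    have hs0 : s0 ∈ Cfsg.SU n F q := by
      intro u v
      show Cfsg.hermForm n F q (((T * g * T⁻¹ : GL (Fin n) F) : Matrix (Fin n) (Fin n) F) *ᵥ u)
        (((T * g * T⁻¹ : GL (Fin n) F) : Matrix (Fin n) (Fin n) F) *ᵥ v) = Cfsg.hermForm n F q u v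
      rw [hherm, hherm, Units.val_mul, Units.val_mul, ← Matrix.mulVec_mulVec, ← Matrix.mulVec_mulVec,
        ← Matrix.mulVec_mulVec, ← Matrix.mulVec_mulVec, hTh, hg, ← hTh, Matrix.mulVec_mulVec,
        Matrix.mulVec_mulVec, ← Units.val_mul, mul_inv_cancel, Units.val_one, Matrix.one_mulVec,
        Matrix.one_mulVec]
    refine ⟨⟨s0, hs0⟩, ?_⟩
    show T⁻¹ * ι0 ⟨s0, hs0⟩ * T⁻¹⁻¹ = g
    rw [inv_inv, show ι0 ⟨s0, hs0⟩ = T * g * T⁻¹ from Units.ext rfl]
    group

/-- In characteristic two every odd index subgroup of `SU_n(q)`, `n` even, is pronormal. -/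
theorem isPronormal_SU_char_two (hF : Fintype.card F = q ^ 2) (hn : Even n) (H : Subgroup (Cfsg.SU n F q))
    (hH : Odd H.index) : Cfsg.IsPronormal H := by
  classical
  haveI : Fact (Nat.Prime 2) := ⟨Nat.prime_two⟩
  set φ := CfsgLib.Classical.Herm.qPow hF
  have hφ : ∀ x, φ (φ x) = x := CfsgLib.Classical.Herm.qPow_qPow hF
  obtain ⟨P, hP⟩ := CfsgLib.SymTwo.exists_sylow_le_of_not_dvd_index (p := 2) H
    (by rw [← even_iff_two_dvd, Nat.not_even_iff_odd]; exact hH)
  refine CfsgLib.SymTwo.pronormal_of_sylow_normalizer_le P H hP fun b hb => ?_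
  suffices hall : ∀ h ∈ H, b * h * b⁻¹ ∈ H by
    refine Subgroup.eq_of_le_of_card_ge (by rintro _ ⟨h, hh, rfl⟩; exact hall h hh)
      (Subgroup.card_map_of_injective (MulAut.conj b).injective).ge
  obtain ⟨θ0, hθ0, hrange0⟩ := exists_model hF hn
  -- adapt the frame to `P`
  obtain ⟨p, hp, hpu⟩ := Frames.exists_unitriangular φ hn hφ (exists_norm_fixed φ)
    ((P : Subgroup _).map θ0) (by
      rintro _ ⟨x, -, rfl⟩
      exact ((hrange0 _).mp ⟨x, rfl⟩).1) (P.isPGroup'.map θ0)
  let θ := (MulAut.conj p⁻¹).toMonoidHom.comp θ0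
  have hθ : Function.Injective θ := (MulAut.conj p⁻¹).injective.comp hθ0
  have hrange : ∀ g, g ∈ θ.range ↔ g ∈ Frames.GJ φ n ∧ (g : Matrix (Fin n) (Fin n) F).det = 1 := by
    intro g
    have hd : ((p * g * p⁻¹ : GL (Fin n) F) : Matrix (Fin n) (Fin n) F).det =
        (g : Matrix (Fin n) (Fin n) F).det := by
      rw [Units.val_mul, Units.val_mul, Matrix.det_units_conj]
    constructor
    · rintro ⟨x, rfl⟩
      obtain ⟨h1, h2⟩ := (hrange0 _).mp ⟨x, rfl⟩
      refine ⟨mul_mem (mul_mem (inv_mem hp) h1) (inv_mem (inv_mem hp)), ?_⟩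
      rw [← hd, show p * θ x * p⁻¹ = θ0 x by show p * (p⁻¹ * θ0 x * p⁻¹⁻¹) * p⁻¹ = _; group]
      exact h2
    · rintro ⟨h1, h2⟩
      obtain ⟨x, hx⟩ := (hrange0 (p * g * p⁻¹)).mpr ⟨mul_mem (mul_mem hp h1) (inv_mem hp), hd.trans h2⟩
      refine ⟨x, ?_⟩
      show p⁻¹ * θ0 x * p⁻¹⁻¹ = g
      rw [hx]; group
  let IsUni : GL (Fin n) F → Prop := fun g => (g : Matrix (Fin n) (Fin n) F).BlockTriangular id ∧
    ∀ l, (g : Matrix (Fin n) (Fin n) F) l l = 1
  have huni_one : IsUni 1 := ⟨by simpa using Matrix.blockTriangular_one, fun l => by simp⟩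
  have hmul : ∀ (X Y : Matrix (Fin n) (Fin n) F), X.BlockTriangular id → Y.BlockTriangular id →
      ∀ a, (X * Y) a a = X a a * Y a a := by
    intro X Y hX hY a
    rw [Matrix.mul_apply, Finset.sum_eq_single a]
    · intro k _ hk
      rcases lt_or_gt_of_ne hk with h | h
      · rw [hX h, zero_mul]
      · rw [hY h, mul_zero]
    · simp
  have hinv : ∀ {c : GL (Fin n) F}, (c : Matrix (Fin n) (Fin n) F).BlockTriangular id →
      ((c⁻¹ : GL (Fin n) F) : Matrix (Fin n) (Fin n) F).BlockTriangular id := by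
    intro c hc
    haveI := c.invertible
    rw [Matrix.coe_units_inv]
    exact Matrix.blockTriangular_inv_of_blockTriangular hc
  have hdiv : ∀ {c : GL (Fin n) F}, (c : Matrix (Fin n) (Fin n) F).BlockTriangular id → ∀ l,
      (c : Matrix (Fin n) (Fin n) F) l l * ((c⁻¹ : GL (Fin n) F) : Matrix (Fin n) (Fin n) F) l l = 1 := by
    intro c hc l
    rw [← hmul _ _ hc (hinv hc), ← Units.val_mul, mul_inv_cancel, Units.val_one, Matrix.one_apply_eq]
  let U : Subgroup (Cfsg.SU n F q) :=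
    { carrier := {x | IsUni (θ x)}
      one_mem' := by show IsUni (θ 1); rw [map_one]; exact huni_one
      mul_mem' := by
        intro x y hx hy
        show IsUni (θ (x * y))
        rw [map_mul]
        exact ⟨by rw [Units.val_mul]; exact hx.1.mul hy.1,
          fun l => by rw [Units.val_mul, hmul _ _ hx.1 hy.1, hx.2, hy.2, mul_one]⟩
      inv_mem' := by
        intro x hx
        show IsUni (θ x⁻¹)
        rw [map_inv]
        refine ⟨hinv hx.1, fun l => ?_⟩
        have := hdiv hx.1 l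
        rwa [hx.2 l, one_mul] at this }
  have hU : IsPGroup 2 U := by
    rintro ⟨x, hx⟩
    have hdet : ((θ x : GL (Fin n) F) : Matrix (Fin n) (Fin n) F).det = 1 := ((hrange _).mp ⟨x, rfl⟩).2
    let s : CfsgLib.AutPSL.SLg n F := ⟨_, hdet⟩
    obtain ⟨k, hk⟩ := CfsgLib.AutPSL.uniTri_pow_eq_one 2 (s := s) (CfsgLib.AutPSL.mem_uniTri.mpr hx)
    refine ⟨k, Subtype.ext (hθ ?_)⟩
    have h := congrArg Matrix.SpecialLinearGroup.toGL hk
    rw [map_pow, map_one, show Matrix.SpecialLinearGroup.toGL s = θ x from Units.ext rfl] at h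
    simpa using h
  have hPU : (P : Subgroup (Cfsg.SU n F q)) = U := by
    refine (P.is_maximal' hU fun x hx => ?_).symm
    have h := hpu _ ⟨x, hx, rfl⟩
    have e : θ x = p⁻¹ * θ0 x * p := by show p⁻¹ * θ0 x * p⁻¹⁻¹ = _; rw [inv_inv]
    show IsUni (θ x)
    rw [e]
    refine ⟨fun a l hal => ?_, fun l => by rw [h l l le_rfl, if_pos rfl]⟩
    rw [h l a (le_of_lt hal), if_neg (ne_of_gt hal : a ≠ l)]
  have hN : ∀ x, x ∈ Subgroup.normalizer ((P : Subgroup (Cfsg.SU n F q)) : Set (Cfsg.SU n F q)) ↔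
      (θ x : Matrix (Fin n) (Fin n) F).BlockTriangular id := by
    intro x
    constructor
    · intro hx
      refine Frames.blockTriangular_of_normalizes φ hn _ fun u hu hut hu1 => ?_
      obtain ⟨y, rfl⟩ := (hrange u).mpr ⟨hu, by
        rw [Matrix.det_of_isUpperTriangular hut]; simp [hu1]⟩
      have hy : y ∈ (P : Subgroup (Cfsg.SU n F q)) := by rw [hPU]; exact ⟨hut, hu1⟩
      have hz := (Subgroup.mem_normalizer_iff.mp ((Subgroup.normalizer _).inv_mem hx) y).mp hy
      rw [inv_inv, hPU] at hz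
      have hz' : IsUni (θ (x⁻¹ * y * x)) := hz
      rw [map_mul, map_mul, map_inv] at hz'
      exact hz'
    · intro hx
      have hconj : ∀ c : GL (Fin n) F, (c : Matrix (Fin n) (Fin n) F).BlockTriangular id → ∀ u, IsUni u →
          IsUni (c * u * c⁻¹) := by
        intro c hc u hu
        refine ⟨by rw [Units.val_mul, Units.val_mul]; exact (hc.mul hu.1).mul (hinv hc), fun l => ?_⟩
        rw [Units.val_mul, Units.val_mul, hmul _ _ (hc.mul hu.1) (hinv hc), hmul _ _ hc hu.1, hu.2, mul_one,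
          hdiv hc]
      rw [Subgroup.mem_normalizer_iff]
      intro y
      rw [hPU]
      show IsUni (θ y) ↔ IsUni (θ (x * y * x⁻¹))
      rw [map_mul, map_mul, map_inv]
      refine ⟨hconj _ hx _, fun h => ?_⟩
      have := hconj _ (hinv hx) _ h
      convert this using 1
      group
  intro h hh
  refine normalizes_overgroup P H hP ?_ ?_ hb h hh
  · intro a ha c hc
    rw [hN] at ha hc
    show a * c * a⁻¹ * c⁻¹ ∈ (P : Subgroup (Cfsg.SU n F q))
    rw [hPU]
    show IsUni (θ (a * c * a⁻¹ * c⁻¹))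
    rw [map_mul, map_mul, map_mul, map_inv, map_inv]
    refine ⟨?_, fun l => ?_⟩
    · simp only [Units.val_mul]
      exact ((ha.mul hc).mul (hinv ha)).mul (hinv hc)
    · simp only [Units.val_mul]
      rw [hmul _ _ ((ha.mul hc).mul (hinv ha)) (hinv hc), hmul _ _ (ha.mul hc) (hinv ha), hmul _ _ ha hc]
      linear_combination (hdiv hc l) + (θ c : Matrix (Fin n) (Fin n) F) l l *
        ((θ c)⁻¹ : GL (Fin n) F).val l l * (hdiv ha l)
  · intro g c hc
    have hc' := (hN c).mp hc
    obtain ⟨hc1, hc2⟩ := (hrange _).mp ⟨c, rfl⟩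
    obtain ⟨t, ht, htt, htd, htx⟩ := Frames.exists_torus_lift φ hn hφ (θ g) (θ c)
      ((hrange _).mp ⟨g, rfl⟩).1 hc1 hc'
    obtain ⟨t0, rfl⟩ := (hrange t).mpr ⟨ht, by
      rw [Matrix.det_of_isUpperTriangular htt, Finset.prod_congr rfl fun l _ => htd l,
        ← Matrix.det_of_isUpperTriangular hc', hc2]⟩
    refine ⟨t0, (hN t0).mpr htt, ?_, (hN _).mpr (by rw [map_mul, map_mul, map_inv]; exact htx)⟩
    show c * t0⁻¹ ∈ (P : Subgroup (Cfsg.SU n F q))
    rw [hPU]
    show IsUni (θ (c * t0⁻¹))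
    rw [map_mul, map_inv]
    refine ⟨by rw [Units.val_mul]; exact hc'.mul (hinv htt), fun l => ?_⟩
    rw [Units.val_mul, hmul _ _ hc' (hinv htt), ← htd l, hdiv htt]

end CfsgLib.PronormalPSU
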