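import Mathlib

/-! Isotropic frames of a hermitian space of even dimension in characteristic two, in matrices. -/

set_option autoImplicit false
set_option linter.style.haveILetI false
set_option linter.unusedSectionVars false

namespace CfsgLib.PronormalPSU.Frames

open Matrix

variable {F : Type*} [Field F] (φ : F →+* F) {n : ℕ}

/-- The antidiagonal hermitian form. -/
def hJ (u v : Fin n → F) : F := ∑ i, φ (u i) * v i.rev

theorem hJ_add_left (u u' v : Fin n → F) : hJ φ (u + u') v = hJ φ u v + hJ φ u' v := by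
  simp [hJ, add_mul, Finset.sum_add_distrib]

theorem hJ_add_right (u v v' : Fin n → F) : hJ φ u (v + v') = hJ φ u v + hJ φ u v' := by
  simp [hJ, mul_add, Finset.sum_add_distrib]

theorem hJ_smul_left (c : F) (u v : Fin n → F) : hJ φ (c • u) v = φ c * hJ φ u v := by
  simp [hJ, Finset.mul_sum, mul_assoc]

theorem hJ_smul_right (c : F) (u v : Fin n → F) : hJ φ u (c • v) = c * hJ φ u v := by
  simp [hJ, Finset.mul_sum, mul_left_comm]

theorem hJ_single_left (i : Fin n) (v : Fin n → F) : hJ φ (Pi.single i 1) v = v i.rev := by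
  rw [hJ, Finset.sum_eq_single i]
  · simp
  · intro b _ hb; simp [hb]
  · simp

theorem hJ_single_right (u : Fin n → F) (i : Fin n) : hJ φ u (Pi.single i 1) = φ (u i.rev) := by
  rw [hJ, Finset.sum_eq_single i.rev]
  · simp
  · intro b _ hb
    have : b.rev ≠ i := fun h => hb (by rw [← h, Fin.rev_rev])
    simp [this]
  · simp

theorem hJ_swap (hφ : ∀ x, φ (φ x) = x) (u v : Fin n → F) : φ (hJ φ u v) = hJ φ v u := by
  rw [hJ, hJ, map_sum]
  refine Fintype.sum_equiv Fin.revPerm _ _ fun i => ?_
  simp [hφ, mul_comm]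

/-- The unitary group of `hJ`. -/
def GJ (n : ℕ) : Subgroup (GL (Fin n) F) where
  carrier := {g | ∀ u v, hJ φ ((g : Matrix (Fin n) (Fin n) F) *ᵥ u) ((g : Matrix (Fin n) (Fin n) F) *ᵥ v) = hJ φ u v}
  one_mem' := by simp
  mul_mem' := by
    intro a b ha hb u v
    rw [Units.val_mul, ← Matrix.mulVec_mulVec, ← Matrix.mulVec_mulVec, ha, hb]
  inv_mem' := by
    intro a ha u v
    conv_rhs => rw [← Matrix.one_mulVec u, ← Matrix.one_mulVec v]
    rw [← Units.val_one (α := Matrix (Fin n) (Fin n) F), ← mul_inv_cancel a, Units.val_mul,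
      ← Matrix.mulVec_mulVec, ← Matrix.mulVec_mulVec, ha]

/-- The `k`-th column. -/
def colv (g : GL (Fin n) F) (k : Fin n) : Fin n → F := fun i => (g : Matrix (Fin n) (Fin n) F) i k

theorem mulVec_single' (g : GL (Fin n) F) (k : Fin n) :
    (g : Matrix (Fin n) (Fin n) F) *ᵥ Pi.single k 1 = colv g k := by
  funext i
  simp [colv]

theorem hJ_col {g : GL (Fin n) F} (hg : g ∈ GJ φ n) (k l : Fin n) :
    hJ φ (colv g k) (colv g l) = if k.rev = l then 1 else 0 := by
  rw [← mulVec_single', ← mulVec_single', hg, hJ_single_left, Pi.single_apply]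

/-- Isometry from orthonormality of columns. -/
theorem mem_GJ_of_col {g : GL (Fin n) F}
    (h : ∀ k l, hJ φ (colv g k) (colv g l) = if k.rev = l then 1 else 0) : g ∈ GJ φ n := by
  have hdec : ∀ u : Fin n → F, (g : Matrix (Fin n) (Fin n) F) *ᵥ u = ∑ k, u k • colv g k := by
    intro u
    funext i
    simp [Matrix.mulVec, dotProduct, colv, mul_comm]
  intro u v
  have hl : ∀ (s : Finset (Fin n)) (w : Fin n → F),
      hJ φ (∑ k ∈ s, u k • colv g k) w = ∑ k ∈ s, φ (u k) * hJ φ (colv g k) w := by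
    intro s w
    classical
    induction s using Finset.induction_on with
    | empty => simp [hJ]
    | insert a s ha ih => rw [Finset.sum_insert ha, Finset.sum_insert ha, hJ_add_left, hJ_smul_left, ih]
  have hr : ∀ (s : Finset (Fin n)) (w : Fin n → F),
      hJ φ w (∑ k ∈ s, v k • colv g k) = ∑ k ∈ s, v k * hJ φ w (colv g k) := by
    intro s w
    classical
    induction s using Finset.induction_on with
    | empty => simp [hJ]
    | insert a s ha ih => rw [Finset.sum_insert ha, Finset.sum_insert ha, hJ_add_right, hJ_smul_right, ih]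
  rw [hdec u, hdec v, hl]
  simp only [hr, h]
  rw [hJ]
  refine Finset.sum_congr rfl fun k _ => ?_
  simp

variable [CharP F 2]

/-- Matrix whose columns are given. -/
theorem exists_gl_of_columns (e : Fin n → Fin n → F)
    (h : ∀ k l, hJ φ (e k) (e l) = if k.rev = l then 1 else 0) :
    ∃ p : GL (Fin n) F, p ∈ GJ φ n ∧ ∀ k, colv p k = e k := by
  let M : Matrix (Fin n) (Fin n) F := Matrix.of fun i k => e k i
  have hM : ∀ k l, (∑ i, φ (M i k) * M i.rev l) = if k.rev = l then 1 else 0 := h
  let N : Matrix (Fin n) (Fin n) F := Matrix.of fun a i => φ (M i.rev a.rev)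
  have hNM : N * M = 1 := by
    ext a l
    rw [Matrix.mul_apply, Matrix.one_apply]
    rw [← Fintype.sum_equiv Fin.revPerm (fun i => φ (M i a.rev) * M i.rev l) (fun i => N a i * M i l)
      (fun i => by simp [N])]
    simpa using hM a.rev l
  let p : GL (Fin n) F := ⟨M, N, mul_eq_one_comm.mp hNM, hNM⟩
  exact ⟨p, mem_GJ_of_col φ h, fun k => rfl⟩

theorem self_inv_add (x : F) : x + x = 0 := CharTwo.add_self_eq_zero x

theorem rev_ne (hn : Even n) (k : Fin n) : k.rev ≠ k := by
  intro hk
  have := congrArg Fin.val hk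
  rw [Fin.val_rev] at this
  obtain ⟨m, hm⟩ := hn
  omega

theorem hJ_single_single (k l : Fin n) :
    hJ φ (Pi.single k (1 : F)) (Pi.single l 1) = if k.rev = l then 1 else 0 := by
  rw [hJ_single_left, Pi.single_apply]

/-- A transformation moving an isotropic vector to a basis vector, triangular for a maximal pivot. -/
theorem exists_pivot (hn : Even n) (hφ : ∀ x, φ (φ x) = x) (v : Fin n → F) (i : Fin n) (hi : v i = 1)
    (hv : hJ φ v v = 0) :
    ∃ p : GL (Fin n) F, p ∈ GJ φ n ∧ colv p i = v ∧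
      (∀ l, l ≠ i → v l.rev = 0 → colv p l = Pi.single l 1) ∧
      ((∀ l, i < l → v l = 0) → (p : Matrix (Fin n) (Fin n) F).BlockTriangular id) := by
  classical
  let c : Fin n → F := fun l => if l = i.rev then 0 else φ (v l.rev)
  let e : Fin n → Fin n → F := fun l =>
    if l = i then v else Pi.single l 1 + c l • Pi.single i.rev 1
  have hsr : hJ φ (Pi.single i.rev (1 : F)) v = 1 := by rw [hJ_single_left, Fin.rev_rev, hi]
  have hvs : hJ φ v (Pi.single i.rev (1 : F)) = 1 := by rw [hJ_single_right, Fin.rev_rev, hi, map_one]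
  have hve : ∀ l, l ≠ i → hJ φ v (Pi.single l 1 + c l • Pi.single i.rev 1) =
      if i.rev = l then 1 else 0 := by
    intro l _
    rw [hJ_add_right, hJ_smul_right, hvs, hJ_single_right, mul_one]
    by_cases h : i.rev = l
    · rw [if_pos h, ← h]
      simp [c, hi]
    · rw [if_neg h]
      simp only [c, if_neg (Ne.symm h)]
      exact self_inv_add _
  have he : ∀ k l, hJ φ (e k) (e l) = if k.rev = l then 1 else 0 := by
    intro k l
    by_cases hk : k = i <;> by_cases hl : l = i
    · rw [hk, hl]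
      simp only [e, if_true]
      rw [hv, if_neg (rev_ne hn i)]
    · rw [hk]
      simp only [e, hl, if_true, if_false]
      exact hve l hl
    · rw [hl]
      simp only [e, hk, if_true, if_false]
      rw [← hJ_swap φ hφ, hve k hk]
      by_cases h : i.rev = k
      · rw [if_pos h, if_pos (by rw [← h, Fin.rev_rev]), map_one]
      · rw [if_neg h, if_neg (fun h' => h (by rw [← h', Fin.rev_rev])), map_zero]
    · simp only [e, hk, hl, if_false]
      rw [hJ_add_left, hJ_add_right, hJ_add_right, hJ_smul_left, hJ_smul_left, hJ_smul_right, hJ_smul_right,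
        hJ_single_single, hJ_single_single, hJ_single_single, hJ_single_single, Fin.rev_rev]
      rw [if_neg (fun h : k.rev = i.rev => hk (Fin.rev_injective h)), if_neg (Ne.symm hl),
        if_neg (rev_ne hn i).symm]
      simp
  obtain ⟨p, hp, hcol⟩ := exists_gl_of_columns φ e he
  refine ⟨p, hp, by rw [hcol]; simp [e], fun l hl hvl => ?_, fun htop a b hab => ?_⟩
  · rw [hcol]
    simp [e, hl, c, hvl]
  · have h1 : (p : Matrix (Fin n) (Fin n) F) a b = e b a := congrFun (hcol b) a
    rw [h1]
    simp only [id] at hab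
    by_cases hb : b = i
    · simp only [e, if_pos hb]
      exact htop a (hb ▸ hab)
    · simp only [e, if_neg hb, Pi.add_apply, Pi.smul_apply, Pi.single_apply, if_neg hab.ne', smul_eq_mul,
        zero_add, mul_ite, mul_one, mul_zero]
      split_ifs with ha
      · simp only [c]
        split_ifs with hbr
        · rfl
        · rw [htop b.rev (by rw [← Fin.rev_lt_rev, Fin.rev_rev]; exact ha ▸ hab), map_zero]
      · rfl

theorem colv_mul (g h : GL (Fin n) F) (k : Fin n) :
    colv (g * h) k = (g : Matrix (Fin n) (Fin n) F) *ᵥ colv h k := by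
  rw [← mulVec_single', ← mulVec_single', Units.val_mul, Matrix.mulVec_mulVec]

theorem inv_mulVec_of (g : GL (Fin n) F) {a b : Fin n → F} (h : (g : Matrix (Fin n) (Fin n) F) *ᵥ a = b) :
    ((g⁻¹ : GL (Fin n) F) : Matrix (Fin n) (Fin n) F) *ᵥ b = a := by
  rw [← h, Matrix.mulVec_mulVec, ← Units.val_mul, inv_mul_cancel, Units.val_one, Matrix.one_mulVec]

theorem mulVec_eq_sum (g : GL (Fin n) F) (u : Fin n → F) (i : Fin n) :
    ((g : Matrix (Fin n) (Fin n) F) *ᵥ u) i = ∑ k, (g : Matrix (Fin n) (Fin n) F) i k * u k := rfl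

/-- A transformation fixing some basis vectors fixes their span. -/
theorem mulVec_eq_self (g : GL (Fin n) F) {S : Fin n → Prop} (hg : ∀ l, S l → colv g l = Pi.single l 1)
    {u : Fin n → F} (hu : ∀ l, ¬ S l → u l = 0) : (g : Matrix (Fin n) (Fin n) F) *ᵥ u = u := by
  funext i
  rw [mulVec_eq_sum, Finset.sum_eq_single i]
  · by_cases hi : S i
    · have := congrFun (hg i hi) i
      simp only [colv, Pi.single_eq_same] at this
      rw [this, one_mul]
    · rw [hu i hi, mul_zero]
  · intro k _ hk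
    by_cases hS : S k
    · have := congrFun (hg k hS) i
      simp only [colv, Pi.single_eq_of_ne hk.symm] at this
      rw [this, zero_mul]
    · rw [hu k hS, mul_zero]
  · simp

theorem inv_apply (hφ : ∀ x, φ (φ x) = x) {g : GL (Fin n) F} (hg : g ∈ GJ φ n) (a b : Fin n) :
    ((g⁻¹ : GL (Fin n) F) : Matrix (Fin n) (Fin n) F) a b =
      φ ((g : Matrix (Fin n) (Fin n) F) b.rev a.rev) := by
  have h := hg (((g⁻¹ : GL (Fin n) F) : Matrix (Fin n) (Fin n) F) *ᵥ Pi.single b 1) (Pi.single a.rev 1)
  rw [Matrix.mulVec_mulVec, ← Units.val_mul, mul_inv_cancel, Units.val_one, Matrix.one_mulVec,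
    mulVec_single', mulVec_single', hJ_single_right, Fin.rev_rev, hJ_single_left] at h
  simp only [colv] at h
  rw [h, hφ]

/-- A permutation matrix commuting with the form. -/
theorem exists_perm_gl (σ : Equiv.Perm (Fin n)) (hσ : ∀ k, σ k.rev = (σ k).rev) :
    ∃ p : GL (Fin n) F, p ∈ GJ φ n ∧ ∀ k, colv p k = Pi.single (σ k) 1 := by
  refine exists_gl_of_columns φ _ fun k l => ?_
  rw [hJ_single_single, ← hσ]
  simp

section step

variable [Finite F]

/-- A 2-group fixing part of an isotropic flag fixes a longer one. -/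
theorem exists_step (hn : Even n) (hφ : ∀ x, φ (φ x) = x)
    (hsq : ∀ x : F, φ x = x → ∃ μ, φ μ * μ = x)
    (P : Subgroup (GL (Fin n) F)) (hP : P ≤ GJ φ n) (hP2 : IsPGroup 2 P) (j : ℕ) (hj : 2 * j + 2 ≤ n)
    (hinv : ∀ u ∈ P, ∀ l : Fin n, (l : ℕ) < j → ∀ a, l ≤ a →
      (u : Matrix (Fin n) (Fin n) F) a l = if a = l then 1 else 0) :
    ∃ p ∈ GJ φ n, ∀ u ∈ P, ∀ l : Fin n, (l : ℕ) < j + 1 → ∀ a, l ≤ a →
      ((p⁻¹ * u * p : GL (Fin n) F) : Matrix (Fin n) (Fin n) F) a l = if a = l then 1 else 0 := by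
  classical
  haveI : Fact (Nat.Prime 2) := ⟨Nat.prime_two⟩
  let inR : Fin n → Prop := fun l => j ≤ (l : ℕ) ∧ j ≤ (l.rev : ℕ)
  let W : Submodule F (Fin n → F) :=
    { carrier := {w | ∀ l, ¬ inR l → w l = 0}
      zero_mem' := fun l _ => rfl
      add_mem' := fun ha hb l hl => by simp [ha l hl, hb l hl]
      smul_mem' := fun c a ha l hl => by simp [ha l hl] }
  let ω : GL (Fin n) F → (Fin n → F) → (Fin n → F) := fun u w l =>
    if inR l then ((u : Matrix (Fin n) (Fin n) F) *ᵥ w) l else 0
  have hWω : ∀ u w, ω u w ∈ W := fun u w l hl => by simp [ω, hl]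
  -- rows in the bottom part
  have hrow : ∀ u ∈ P, ∀ a : Fin n, (a.rev : ℕ) < j → ∀ b, b ≤ a →
      (u : Matrix (Fin n) (Fin n) F) a b = if a = b then 1 else 0 := by
    intro u hu a ha b hb
    have h := inv_apply φ hφ ((GJ φ n).inv_mem (hP hu)) a b
    rw [inv_inv] at h
    rw [h, hinv _ (P.inv_mem hu) a.rev ha b.rev (Fin.rev_le_rev.mpr hb)]
    by_cases hab : a = b
    · rw [if_pos hab, if_pos (by rw [hab]), map_one]
    · rw [if_neg hab, if_neg (fun h => hab (Fin.rev_injective h).symm), map_zero]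
  -- the discarded part lies in the fixed flag
  have hres : ∀ u ∈ P, ∀ w ∈ W, ∀ l : Fin n, ¬ (l : ℕ) < j →
      ((u : Matrix (Fin n) (Fin n) F) *ᵥ w) l = ω u w l := by
    intro u hu w hw l hl
    by_cases hR : inR l
    · simp [ω, hR]
    · have hlr : (l.rev : ℕ) < j := by
        by_contra h
        exact hR ⟨le_of_not_gt hl, le_of_not_gt h⟩
      simp only [ω, if_neg hR]
      rw [mulVec_eq_sum]
      refine Finset.sum_eq_zero fun k _ => ?_
      by_cases hk : k ≤ l
      · rw [hrow u hu l hlr k hk]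
        split_ifs with h
        · subst h; rw [hw l hR, mul_zero]
        · rw [zero_mul]
      · have : ¬ inR k := by
          rintro ⟨-, hk2⟩
          have : (k.rev : ℕ) ≤ l.rev := Fin.rev_le_rev.mpr (le_of_not_ge hk)
          omega
        rw [hw k this, mul_zero]
  have hlow : ∀ u ∈ P, ∀ z : Fin n → F, (∀ l : Fin n, ¬ (l : ℕ) < j → z l = 0) →
      ∀ l : Fin n, ¬ (l : ℕ) < j → ((u : Matrix (Fin n) (Fin n) F) *ᵥ z) l = 0 := by
    intro u hu z hz l hl
    rw [mulVec_eq_sum]
    refine Finset.sum_eq_zero fun k _ => ?_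
    by_cases hk : (k : ℕ) < j
    · rw [hinv u hu k hk l (le_of_lt (by omega : (k : ℕ) < l)), if_neg (fun h : l = k => hl (h ▸ hk)), zero_mul]
    · rw [hz k hk, mul_zero]
  have hωmul : ∀ u ∈ P, ∀ u' ∈ P, ∀ w ∈ W, ω u (ω u' w) = ω (u * u') w := by
    intro u hu u' hu' w hw
    funext l
    by_cases hR : inR l
    · simp only [ω, if_pos hR]
      rw [Units.val_mul, ← Matrix.mulVec_mulVec]
      have hz := hlow u hu ((u' : Matrix (Fin n) (Fin n) F) *ᵥ w - ω u' w)
        (fun k hk => by rw [Pi.sub_apply, hres u' hu' w hw k hk, sub_self]) l (by omega)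
      rw [Matrix.mulVec_sub, Pi.sub_apply, sub_eq_zero] at hz
      exact hz.symm
    · simp [ω, hR]
  have hω1 : ∀ w ∈ W, ω 1 w = w := by
    intro w hw
    funext l
    by_cases hR : inR l
    · simp [ω, hR]
    · simp [ω, hR, hw l hR]
  have hωiso : ∀ u ∈ P, ∀ w ∈ W, ∀ w' ∈ W, hJ φ (ω u w) (ω u w') = hJ φ w w' := by
    intro u hu w hw w' hw'
    rw [← hP hu w w', hJ, hJ]
    refine Finset.sum_congr rfl fun k _ => ?_
    by_cases hk : (k : ℕ) < j
    · have h1 : ¬ inR k.rev := fun h => by have := h.2; rw [Fin.rev_rev] at this; omega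
      have h2 : ¬ (k.rev : ℕ) < j := by rw [Fin.val_rev]; omega
      rw [hres u hu w' hw' k.rev h2, hWω u w' k.rev h1, mul_zero, mul_zero]
    · by_cases hkr : (k.rev : ℕ) < j
      · have h1 : ¬ inR k := fun h => by have := h.2; omega
        rw [hres u hu w hw k hk, hWω u w k h1, map_zero, zero_mul, zero_mul]
      · rw [hres u hu w hw k hk, hres u hu w' hw' k.rev hkr]
  have hωadd : ∀ u w w', ω u (w + w') = ω u w + ω u w' := by
    intro u w w'; funext l
    by_cases hR : inR l <;> simp [ω, hR, Matrix.mulVec_add]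
  have hωsmul : ∀ u (c : F) w, ω u (c • w) = c • ω u w := by
    intro u c w; funext l
    by_cases hR : inR l <;> simp [ω, hR, Matrix.mulVec_smul]
  -- fixed vectors in invariant subspaces
  have hfixed : ∀ W' : Submodule F (Fin n → F), W' ≤ W → (∀ u ∈ P, ∀ w ∈ W', ω u w ∈ W') → W' ≠ ⊥ →
      ∃ v ∈ W', v ≠ 0 ∧ ∀ u ∈ P, ω u v = v := by
    intro W' hle hinv' hne
    letI act : MulAction P W' :=
      { smul := fun u w => ⟨ω u w, hinv' u u.2 w w.2⟩
        one_smul := fun w => Subtype.ext (hω1 w (hle w.2))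
        mul_smul := fun u u' w => Subtype.ext (hωmul u u.2 u' u'.2 w (hle w.2)).symm }
    obtain ⟨w0, hw0, hw0ne⟩ := Submodule.exists_mem_ne_zero_of_ne_bot hne
    have hord : addOrderOf (⟨w0, hw0⟩ : W') = 2 := addOrderOf_eq_prime
      (Subtype.ext (by rw [two_nsmul]; funext k; exact self_inv_add _))
      (fun h => hw0ne (congrArg Subtype.val h))
    have h2 : 2 ∣ Nat.card W' := hord ▸ addOrderOf_dvd_natCard _
    have hzero : (0 : W') ∈ MulAction.fixedPoints P W' := fun u => Subtype.ext (by
      show ω u 0 = 0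
      funext l; simp [ω])
    obtain ⟨b, hb, hb0⟩ := hP2.exists_fixed_point_of_prime_dvd_card_of_fixed_point W' h2 hzero
    exact ⟨b.1, b.2, fun h => hb0 (Subtype.ext h.symm), fun u hu => congrArg Subtype.val (hb ⟨u, hu⟩)⟩
  have hjR : ∀ k : Fin n, (k : ℕ) = j → inR k := fun k hk => ⟨by omega, by rw [Fin.val_rev]; omega⟩
  set j0 : Fin n := ⟨j, by omega⟩ with hj0
  have hsingle : ∀ k, inR k → (Pi.single k (1 : F) : Fin n → F) ∈ W := fun k hk l hl => by
    rw [Pi.single_eq_of_ne]; rintro rfl; exact hl hk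
  have hrevR : ∀ k, inR k → inR k.rev := fun k hk => ⟨hk.2, by rw [Fin.rev_rev]; exact hk.1⟩
  -- an isotropic fixed vector
  obtain ⟨v, hvW, hv0, hviso, hvfix⟩ : ∃ v ∈ W, v ≠ 0 ∧ hJ φ v v = 0 ∧ ∀ u ∈ P, ω u v = v := by
    obtain ⟨v, hvW, hv0, hvf⟩ := hfixed W le_rfl (fun u _ w _ => hWω u w) (by
      intro h
      have := (Submodule.eq_bot_iff W).mp h _ (hsingle j0 (hjR _ rfl))
      simp at this)
    by_cases ha : hJ φ v v = 0
    · exact ⟨v, hvW, hv0, ha, hvf⟩
    let W' : Submodule F (Fin n → F) :=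
      { carrier := {w | w ∈ W ∧ hJ φ v w = 0}
        zero_mem' := ⟨W.zero_mem, by simp [hJ]⟩
        add_mem' := fun ha' hb' => ⟨W.add_mem ha'.1 hb'.1, by rw [hJ_add_right, ha'.2, hb'.2, add_zero]⟩
        smul_mem' := fun c w hw => ⟨W.smul_mem c hw.1, by rw [hJ_smul_right, hw.2, mul_zero]⟩ }
    obtain ⟨w, hw, hw0, hwf⟩ := hfixed W' (fun x hx => hx.1) (fun u hu x hx => ⟨hWω u x, by
        conv_lhs => rw [← hvf u hu]
        rw [hωiso u hu v hvW x hx.1, hx.2]⟩) (by
      intro h
      have h' := fun x (hx : x ∈ W) (hx' : hJ φ v x = 0) => (Submodule.eq_bot_iff W').mp h x ⟨hx, hx'⟩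
      set s1 := (Pi.single j0 (1 : F) : Fin n → F)
      set s2 := (Pi.single j0.rev (1 : F) : Fin n → F)
      have hz := h' (hJ φ v s2 • s1 - hJ φ v s1 • s2)
        (W.sub_mem (W.smul_mem _ (hsingle _ (hjR _ rfl))) (W.smul_mem _ (hsingle _ (hrevR _ (hjR _ rfl))))) (by
          rw [sub_eq_add_neg, hJ_add_right, ← neg_smul, hJ_smul_right, hJ_smul_right]; ring)
      have h1 := congrFun hz j0
      simp [s1, s2, Pi.single_apply, (rev_ne hn j0).symm] at h1
      have hs1 := h' s1 (hsingle _ (hjR _ rfl))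
      by_cases hvs : hJ φ v s1 = 0
      · have := congrFun (hs1 hvs) j0; simp [s1] at this
      · have h2' := congrFun hz j0.rev
        simp [s1, s2, rev_ne hn j0] at h2'
        exact hvs h2')
    by_cases hb : hJ φ w w = 0
    · exact ⟨w, hw.1, hw0, hb, hwf⟩
    have hfa : φ (hJ φ v v) = hJ φ v v := hJ_swap φ hφ v v
    have hfb : φ (hJ φ w w) = hJ φ w w := hJ_swap φ hφ w w
    obtain ⟨μ, hμ⟩ := hsq (hJ φ v v / hJ φ w w) (by rw [map_div₀, hfa, hfb])
    have hwv : hJ φ w v = 0 := by rw [← hJ_swap φ hφ, hw.2, map_zero]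
    refine ⟨v + μ • w, W.add_mem hvW (W.smul_mem _ hw.1), fun h => ha ?_, ?_, fun u hu => ?_⟩
    · have hv' : v = -(μ • w) := eq_neg_of_add_eq_zero_left h
      have h' : hJ φ v v = hJ φ v (-(μ • w)) := by rw [← hv']
      rw [h', ← neg_smul, hJ_smul_right, hw.2, mul_zero]
    · rw [hJ_add_left, hJ_add_right, hJ_add_right, hJ_smul_left, hJ_smul_left, hJ_smul_right, hJ_smul_right,
        hw.2, hwv, mul_zero, mul_zero, add_zero, zero_add, ← mul_assoc, hμ, div_mul_cancel₀ _ hb]
      exact self_inv_add _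
    · rw [hωadd, hωsmul, hvf u hu, hwf u hu]
  obtain ⟨i, hi⟩ : ∃ i, v i ≠ 0 := Function.ne_iff.mp hv0
  have hiR : inR i := by by_contra h; exact hi (hvW i h)
  set v' := (v i)⁻¹ • v with hv'
  have hv'W : v' ∈ W := W.smul_mem _ hvW
  obtain ⟨p1, hp1, hp1i, hp1c, -⟩ := exists_pivot φ hn hφ v' i (by simp [v', hi])
    (by rw [hv', hJ_smul_left, hJ_smul_right, hviso, mul_zero, mul_zero])
  obtain ⟨σ, hσrev, hσj, hσfix⟩ : ∃ σ : Equiv.Perm (Fin n), (∀ k, σ k.rev = (σ k).rev) ∧ σ j0 = i ∧
      ∀ k : Fin n, (k : ℕ) < j → σ k = k := by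
    by_cases hij : i = j0
    · exact ⟨1, fun k => rfl, hij.symm, fun k _ => rfl⟩
    have hrr : ∀ x y : Fin n, x.rev = y ↔ x = y.rev := fun x y =>
      ⟨fun h => by rw [← h, Fin.rev_rev], fun h => by rw [h, Fin.rev_rev]⟩
    have hout : ∀ k : Fin n, (k : ℕ) < j → k ≠ j0 ∧ k ≠ i ∧ k ≠ j0.rev ∧ k ≠ i.rev := by
      intro k hk
      refine ⟨?_, ?_, ?_, ?_⟩ <;> rintro rfl
      · simp [hj0] at hk
      · exact absurd hk (not_lt.mpr hiR.1)
      · exact absurd hk (not_lt.mpr (hjR j0 rfl).2)
      · exact absurd hk (not_lt.mpr hiR.2)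
    by_cases hijr : i = j0.rev
    · refine ⟨Equiv.swap j0 j0.rev, fun k => ?_, by rw [Equiv.swap_apply_left, hijr], fun k hk =>
        Equiv.swap_apply_of_ne_of_ne (hout k hk).1 (hout k hk).2.2.1⟩
      rw [Equiv.swap_apply_def, Equiv.swap_apply_def]
      split_ifs <;> simp_all [hrr]
    · have h1 := rev_ne hn j0
      have h2 := rev_ne hn i
      have h3 : i.rev ≠ j0 := fun h => hijr ((hrr i j0).mp h)
      have h4 : i.rev ≠ j0.rev := fun h => hij (Fin.rev_injective h)
      refine ⟨Equiv.swap j0 i * Equiv.swap j0.rev i.rev, fun k => ?_, ?_, fun k hk => ?_⟩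
      · rw [Equiv.Perm.mul_apply, Equiv.Perm.mul_apply]
        by_cases k1 : k = j0
        · subst k1
          rw [Equiv.swap_apply_left, Equiv.swap_apply_of_ne_of_ne h3 h2,
            Equiv.swap_apply_of_ne_of_ne h1.symm h3.symm, Equiv.swap_apply_left]
        by_cases k2 : k = i
        · subst k2
          rw [Equiv.swap_apply_right, Equiv.swap_apply_of_ne_of_ne h1 (Ne.symm hijr),
            Equiv.swap_apply_of_ne_of_ne hijr h2.symm, Equiv.swap_apply_right]
        by_cases k3 : k = j0.rev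
        · subst k3
          rw [Fin.rev_rev, Equiv.swap_apply_of_ne_of_ne h1.symm h3.symm, Equiv.swap_apply_left,
            Equiv.swap_apply_left, Equiv.swap_apply_of_ne_of_ne h3 h2, Fin.rev_rev]
        by_cases k4 : k = i.rev
        · subst k4
          rw [Fin.rev_rev, Equiv.swap_apply_of_ne_of_ne hijr h2.symm, Equiv.swap_apply_right,
            Equiv.swap_apply_right, Equiv.swap_apply_of_ne_of_ne h1 (Ne.symm hijr), Fin.rev_rev]
        rw [Equiv.swap_apply_of_ne_of_ne (fun h => k1 (Fin.rev_injective h)) (fun h => k2 (Fin.rev_injective h)),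
          Equiv.swap_apply_of_ne_of_ne (fun h => k3 ((hrr k j0).mp h)) (fun h => k4 ((hrr k i).mp h)),
          Equiv.swap_apply_of_ne_of_ne k3 k4, Equiv.swap_apply_of_ne_of_ne k1 k2]
      · rw [Equiv.Perm.mul_apply, Equiv.swap_apply_of_ne_of_ne h1.symm h3.symm, Equiv.swap_apply_left]
      · rw [Equiv.Perm.mul_apply, Equiv.swap_apply_of_ne_of_ne (hout k hk).2.2.1 (hout k hk).2.2.2,
          Equiv.swap_apply_of_ne_of_ne (hout k hk).1 (hout k hk).2.1]
  obtain ⟨π, hπ, hπc⟩ := exists_perm_gl φ σ hσrev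
  set p := p1 * π with hp
  have hpj : colv p j0 = v' := by rw [hp, colv_mul, hπc, hσj, mulVec_single', hp1i]
  have hpl : ∀ l : Fin n, (l : ℕ) < j → colv p l = Pi.single l 1 := by
    intro l hl
    rw [hp, colv_mul, hπc, hσfix l hl, mulVec_single']
    refine hp1c l (fun h => ?_) (hv'W _ (fun h => ?_))
    · exact absurd hl (not_lt.mpr (h ▸ hiR.1))
    · have := h.2; rw [Fin.rev_rev] at this; omega
  refine ⟨p, mul_mem hp1 hπ, fun u hu l hl a ha => ?_⟩
  have hz' : ∀ z : Fin n → F, (∀ k : Fin n, ¬ (k : ℕ) < j → z k = 0) →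
      ((p⁻¹ : GL (Fin n) F) : Matrix (Fin n) (Fin n) F) *ᵥ z = z := fun z hz =>
    inv_mulVec_of p (mulVec_eq_self p (S := fun k => (k : ℕ) < j) hpl hz)
  show colv (p⁻¹ * u * p) l a = _
  rw [colv_mul, Units.val_mul, ← Matrix.mulVec_mulVec]
  rcases (show (l : ℕ) < j ∨ l = j0 by
    rcases Nat.lt_or_ge (l : ℕ) j with h | h
    · exact Or.inl h
    · exact Or.inr (Fin.ext (by simp [hj0]; omega))) with hlj | rfl
  · rw [hpl l hlj, mulVec_single', hz' (colv u l) (fun k hk => by
      show (u : Matrix (Fin n) (Fin n) F) k l = 0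
      rw [hinv u hu l hlj k (le_of_lt (by omega : (l : ℕ) < k)), if_neg (fun h : k = l => hk (h ▸ hlj))])]
    exact hinv u hu l hlj a ha
  · have hfix : ω u v' = v' := by rw [hv', hωsmul, hvfix u hu]
    set z := (u : Matrix (Fin n) (Fin n) F) *ᵥ v' - v' with hzdef
    have hz : ∀ k : Fin n, ¬ (k : ℕ) < j → z k = 0 := fun k hk => by
      rw [hzdef, Pi.sub_apply, hres u hu v' hv'W k hk, hfix, sub_self]
    rw [hpj, show (u : Matrix (Fin n) (Fin n) F) *ᵥ v' = v' + z by rw [hzdef, add_sub_cancel],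
      Matrix.mulVec_add, hz' z hz, inv_mulVec_of p ((mulVec_single' p j0).trans hpj), Pi.add_apply,
      Pi.single_apply, hz a (not_lt.mpr (by simpa [hj0] using Fin.le_def.mp ha)), add_zero]

/-- A 2-group of isometries is unitriangular in some frame. -/
theorem exists_unitriangular (hn : Even n) (hφ : ∀ x, φ (φ x) = x)
    (hsq : ∀ x : F, φ x = x → ∃ μ, φ μ * μ = x)
    (P : Subgroup (GL (Fin n) F)) (hP : P ≤ GJ φ n) (hP2 : IsPGroup 2 P) :
    ∃ p ∈ GJ φ n, ∀ u ∈ P, ∀ l a : Fin n, l ≤ a →
      ((p⁻¹ * u * p : GL (Fin n) F) : Matrix (Fin n) (Fin n) F) a l = if a = l then 1 else 0 := by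
  obtain ⟨m, hm⟩ := hn
  have key : ∀ j, j ≤ m → ∃ p ∈ GJ φ n, ∀ u ∈ P, ∀ l : Fin n, (l : ℕ) < j → ∀ a, l ≤ a →
      ((p⁻¹ * u * p : GL (Fin n) F) : Matrix (Fin n) (Fin n) F) a l = if a = l then 1 else 0 := by
    intro j hj
    induction j with
    | zero => exact ⟨1, one_mem _, fun u _ l hl => absurd hl (Nat.not_lt_zero _)⟩
    | succ j ih =>
      obtain ⟨p, hp, hinv⟩ := ih (by omega)
      let P' := P.map (MulAut.conj p⁻¹).toMonoidHom
      have hP' : P' ≤ GJ φ n := by
        rintro _ ⟨u, hu, rfl⟩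
        exact mul_mem (mul_mem (inv_mem hp) (hP hu)) (inv_mem (inv_mem hp))
      obtain ⟨p', hp', h'⟩ := exists_step φ ⟨m, hm⟩ hφ hsq P' hP' (hP2.map _) j (by omega) (by
        rintro _ ⟨u, hu, rfl⟩ l hl a ha
        show ((p⁻¹ * u * p⁻¹⁻¹ : GL (Fin n) F) : Matrix (Fin n) (Fin n) F) a l = _
        rw [inv_inv]
        exact hinv u hu l hl a ha)
      refine ⟨p * p', mul_mem hp hp', fun u hu l hl a ha => ?_⟩
      have := h' _ ⟨u, hu, rfl⟩ l hl a ha
      rw [show (p * p')⁻¹ * u * (p * p') = p'⁻¹ * (MulAut.conj p⁻¹).toMonoidHom u * p' by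
        show _ = p'⁻¹ * (p⁻¹ * u * p⁻¹⁻¹) * p'
        group]
      exact this
  obtain ⟨p, hp, h⟩ := key m le_rfl
  refine ⟨p, hp, fun u hu l a ha => ?_⟩
  by_cases hl : (l : ℕ) < m
  · exact h u hu l hl a ha
  have hg : p⁻¹ * u * p ∈ GJ φ n := mul_mem (mul_mem (inv_mem hp) (hP hu)) hp
  have := inv_apply φ hφ ((GJ φ n).inv_mem hg) a l
  rw [inv_inv] at this
  rw [this, show (p⁻¹ * u * p)⁻¹ = p⁻¹ * u⁻¹ * p by group,
    h _ (P.inv_mem hu) a.rev (by
      rw [Fin.val_rev]
      have := Fin.le_def.mp ha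
      omega) l.rev (Fin.rev_le_rev.mpr ha)]
  by_cases hal : a = l
  · rw [if_pos hal, if_pos (by rw [hal]), map_one]
  · rw [if_neg hal, if_neg (fun h => hal (Fin.rev_injective h).symm), map_zero]

end step

/-- Upper triangular from its first half of columns. -/
theorem blockTriangular_of_half (hφ : ∀ x, φ (φ x) = x) {y : GL (Fin n) F} (hy : y ∈ GJ φ n)
    (m : ℕ) (hm : n = m + m)
    (h : ∀ l a : Fin n, (l : ℕ) < m → l < a →
      (y : Matrix (Fin n) (Fin n) F) a l = 0 ∧ ((y⁻¹ : GL (Fin n) F) : Matrix (Fin n) (Fin n) F) a l = 0) :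
    (y : Matrix (Fin n) (Fin n) F).BlockTriangular id := by
  intro a l hal
  simp only [id] at hal
  by_cases hl : (l : ℕ) < m
  · exact (h l a hl hal).1
  · have := inv_apply φ hφ ((GJ φ n).inv_mem hy) a l
    rw [inv_inv] at this
    rw [this, (h a.rev l.rev (by
      rw [Fin.val_rev]
      have := Fin.lt_def.mp hal
      omega) (Fin.rev_lt_rev.mpr hal)).2, map_zero]

/-- Two flags share a torus: a triangular frame in which `x` has monomial shape. -/
theorem exists_common_frame (hn : Even n) (hφ : ∀ x, φ (φ x) = x) (x : GL (Fin n) F) (hx : x ∈ GJ φ n) :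
    ∀ j, 2 * j ≤ n → ∃ p ∈ GJ φ n, (p : Matrix (Fin n) (Fin n) F).BlockTriangular id ∧
      ∃ σ : Fin n → Fin n, ∀ l : Fin n, (l : ℕ) < j →
        (((p⁻¹ * x : GL (Fin n) F) : Matrix (Fin n) (Fin n) F) (σ l) l ≠ 0 ∧
        ∀ k, ((p⁻¹ * x : GL (Fin n) F) : Matrix (Fin n) (Fin n) F) k l ≠ 0 → ∃ l' : Fin n, l' ≤ l ∧ σ l' = k) := by
  classical
  intro j hj
  induction j with
  | zero =>
    exact ⟨1, one_mem _, by simpa using Matrix.blockTriangular_one, id,
      fun l hl => absurd hl (Nat.not_lt_zero _)⟩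
  | succ j ih =>
    obtain ⟨p, hp, hpt, σ, hσ⟩ := ih (by omega)
    set y := p⁻¹ * x with hydef
    have hy : y ∈ GJ φ n := mul_mem (inv_mem hp) hx
    set Y := (y : Matrix (Fin n) (Fin n) F) with hY
    set j0 : Fin n := ⟨j, by omega⟩ with hj0
    have hspan : ∀ l : ℕ, ∀ L : Fin n, (L : ℕ) = l → l < j →
        ∃ u : Fin n → F, (∀ k, L < k → u k = 0) ∧ Y *ᵥ u = Pi.single (σ L) 1 := by
      intro l
      induction l using Nat.strong_induction_on with
      | _ l ihl =>
        intro L hL hlj
        obtain ⟨hne, hsup⟩ := hσ L (hL ▸ hlj)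
        -- remove the other entries of the column
        have hcol : ∀ s : Finset (Fin n), (∀ k ∈ s, k ≠ σ L ∧ Y k L ≠ 0) →
            ∃ u : Fin n → F, (∀ k, L ≤ k → u k = 0) ∧ Y *ᵥ u = ∑ k ∈ s, Y k L • Pi.single k (1 : F) := by
          intro s
          induction s using Finset.induction_on with
          | empty => exact fun _ => ⟨0, fun _ _ => rfl, by simp⟩
          | insert k s hks ihs =>
            intro hs
            obtain ⟨hk1, hk2⟩ := hs k (Finset.mem_insert_self _ _)
            obtain ⟨u, hu, hYu⟩ := ihs (fun a ha => hs a (Finset.mem_insert_of_mem ha))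
            obtain ⟨l', hl', rfl⟩ := hsup k hk2
            have hlt : l' < L := lt_of_le_of_ne hl' (fun h => hk1 (by rw [h]))
            obtain ⟨u', hu', hYu'⟩ := ihl (l' : ℕ) (hL ▸ Fin.lt_def.mp hlt) l' rfl
              (by have := Fin.lt_def.mp hlt; omega)
            refine ⟨Y (σ l') L • u' + u, fun a ha => ?_, ?_⟩
            · simp [hu a ha, hu' a (lt_of_lt_of_le hlt ha)]
            · rw [Matrix.mulVec_add, Matrix.mulVec_smul, hYu', hYu, Finset.sum_insert hks]
        obtain ⟨u, hu, hYu⟩ := hcol (Finset.univ.filter fun k => k ≠ σ L ∧ Y k L ≠ 0)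
          (fun k hk => (Finset.mem_filter.mp hk).2)
        refine ⟨(Y (σ L) L)⁻¹ • (Pi.single L 1 - u), fun k hk => by
          simp [hu k hk.le, Pi.single_eq_of_ne hk.ne'], ?_⟩
        rw [Matrix.mulVec_smul, Matrix.mulVec_sub, hY, mulVec_single', ← hY, hYu]
        funext k
        simp only [Pi.smul_apply, Pi.sub_apply, Finset.sum_apply, smul_eq_mul, colv, Pi.single_apply, mul_ite,
          mul_one, mul_zero]
        rw [Finset.sum_ite_eq]
        simp only [Finset.mem_filter, Finset.mem_univ, true_and, ← hY]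
        by_cases hk : k = σ L
        · subst hk; simp [hne]
        · rw [if_neg hk]
          by_cases h0 : Y k L = 0 <;> simp [hk, h0]
    -- the next column
    set v0 := colv y j0 with hv0
    have hperp : ∀ l : Fin n, (l : ℕ) < j → v0 (σ l).rev = 0 := by
      intro l hl
      obtain ⟨u, hu, hYu⟩ := hspan l l rfl hl
      have h := hy u (Pi.single j0 1)
      rw [← hY, hYu, hY, mulVec_single', hJ_single_left, hJ_single_right] at h
      show colv y j0 (σ l).rev = 0
      rw [h, hu j0.rev (by rw [Fin.lt_def, Fin.val_rev]; simp [hj0]; omega), map_zero]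
    let used : Fin n → Prop := fun k => ∃ l : Fin n, (l : ℕ) < j ∧ σ l = k
    let w : Fin n → F := fun k => if used k then 0 else v0 k
    have hwne : w ≠ 0 := by
      intro hw
      have key : ∀ s : Finset (Fin n), ∀ v : Fin n → F, (∀ k ∈ s, used k) → (∀ k, k ∉ s → v k = 0) →
          ∃ u : Fin n → F, (∀ k : Fin n, j ≤ (k : ℕ) → u k = 0) ∧ Y *ᵥ u = v := by
        intro s
        induction s using Finset.induction_on with
        | empty =>
          intro v _ hv
          exact ⟨0, fun _ _ => rfl, by rw [Matrix.mulVec_zero]; funext k; exact (hv k (by simp)).symm⟩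
        | insert k s hks ihs =>
          intro v hs hv
          obtain ⟨u, hu, hYu⟩ := ihs (Function.update v k 0) (fun a ha => hs a (Finset.mem_insert_of_mem ha))
            (fun a ha => by
              by_cases h : a = k
              · subst h; simp
              · rw [Function.update_of_ne h]; exact hv a (by simp [ha, h]))
          obtain ⟨l, hl, rfl⟩ := hs k (Finset.mem_insert_self _ _)
          obtain ⟨u', hu', hYu'⟩ := hspan l l rfl hl
          refine ⟨u + v (σ l) • u', fun a ha => by simp [hu a ha, hu' a (Fin.lt_def.mpr (by omega))], ?_⟩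
          rw [Matrix.mulVec_add, Matrix.mulVec_smul, hYu, hYu']
          funext a
          by_cases h : a = σ l
          · subst h; simp
          · simp [h]
      obtain ⟨u, hu, hYu⟩ := key (Finset.univ.filter used) v0 (fun k hk => (Finset.mem_filter.mp hk).2)
        (fun k hk => by
          have := congrFun hw k
          simpa [w, show ¬ used k from fun h => hk (Finset.mem_filter.mpr ⟨Finset.mem_univ _, h⟩)] using this)
      rw [hv0, ← mulVec_single', hY] at hYu
      have := congrFun (congrArg (((y⁻¹ : GL (Fin n) F) : Matrix (Fin n) (Fin n) F) *ᵥ ·) hYu) j0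
      simp only [Matrix.mulVec_mulVec, ← Units.val_mul, inv_mul_cancel, Units.val_one, Matrix.one_mulVec] at this
      rw [hu j0 (by simp [hj0]), Pi.single_eq_same] at this
      exact zero_ne_one this
    have hwrev : ∀ l : Fin n, (l : ℕ) < j → w (σ l).rev = 0 := fun l hl => by
      simp only [w]; split_ifs <;> simp [hperp l hl]
    have hwiso : hJ φ w w = 0 := by
      have h0 : hJ φ v0 v0 = 0 := by
        rw [hv0, hJ_col φ hy, if_neg (rev_ne hn j0)]
      rw [← h0, hJ, hJ]
      refine Finset.sum_congr rfl fun k _ => ?_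
      by_cases hk : used k
      · obtain ⟨l, hl, rfl⟩ := hk
        simp [hwrev l hl, hperp l hl]
      · by_cases hkr : used k.rev
        · obtain ⟨l, hl, hlk⟩ := hkr
          have hz := hperp l hl
          rw [hlk, Fin.rev_rev] at hz
          simp [w, hk, hz]
        · simp [w, hk, hkr]
    obtain ⟨k0, hk0⟩ := Function.ne_iff.mp hwne
    obtain ⟨i, hi, himax⟩ := Finset.exists_max_image (Finset.univ.filter fun k => w k ≠ 0) id
      ⟨k0, Finset.mem_filter.mpr ⟨Finset.mem_univ _, hk0⟩⟩
    have hi' : w i ≠ 0 := (Finset.mem_filter.mp hi).2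
    set w' := (w i)⁻¹ • w with hw'
    obtain ⟨p1, hp1, hp1i, hp1c, hp1t⟩ := exists_pivot φ hn hφ w' i (by simp [w', hi'])
      (by rw [hw', hJ_smul_left, hJ_smul_right, hwiso, mul_zero, mul_zero])
    have hp1t' := hp1t fun l hl => by
      by_contra h
      have := himax l (Finset.mem_filter.mpr ⟨Finset.mem_univ _, fun h0 => h (by simp [w', h0])⟩)
      exact absurd this (not_le.mpr hl)
    have hiused : ¬ used i := fun h => hi' (by simp [w, h])
    have hfix : ∀ k, used k → colv p1 k = Pi.single k 1 := by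
      rintro k ⟨l, hl, rfl⟩
      exact hp1c _ (fun h => hiused ⟨l, hl, h⟩) (by simp [w', hwrev l hl])
    have hinvfix : ∀ z : Fin n → F, (∀ k, ¬ used k → z k = 0) →
        ((p1⁻¹ : GL (Fin n) F) : Matrix (Fin n) (Fin n) F) *ᵥ z = z := fun z hz =>
      inv_mulVec_of p1 (mulVec_eq_self p1 (S := used) hfix hz)
    refine ⟨p * p1, mul_mem hp hp1, by rw [Units.val_mul]; exact hpt.mul hp1t', Function.update σ j0 i, ?_⟩
    have hkey : ∀ l : Fin n, ∀ k, ((((p * p1)⁻¹ * x : GL (Fin n) F)) : Matrix (Fin n) (Fin n) F) k l =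
        (((p1⁻¹ : GL (Fin n) F) : Matrix (Fin n) (Fin n) F) *ᵥ colv y l) k := by
      intro l k
      rw [show (p * p1)⁻¹ * x = p1⁻¹ * y by rw [hydef]; group]
      exact congrFun (colv_mul p1⁻¹ y l) k
    intro l hl
    rcases (show (l : ℕ) < j ∨ l = j0 by
      rcases Nat.lt_or_ge (l : ℕ) j with h | h
      · exact Or.inl h
      · exact Or.inr (Fin.ext (by simp [hj0]; omega))) with hlj | rfl
    · obtain ⟨hne, hsup⟩ := hσ l hlj
      have hcol : ((p1⁻¹ : GL (Fin n) F) : Matrix (Fin n) (Fin n) F) *ᵥ colv y l = colv y l := by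
        refine hinvfix _ fun k hk => ?_
        by_contra h
        obtain ⟨l', hl', hσl'⟩ := hsup k h
        exact hk ⟨l', by have := Fin.le_def.mp hl'; omega, hσl'⟩
      have hlne : l ≠ j0 := fun h => by rw [h] at hlj; simp [hj0] at hlj
      refine ⟨?_, fun k hk => ?_⟩
      · rw [Function.update_of_ne hlne, hkey, hcol]; exact hne
      · rw [hkey, hcol] at hk
        obtain ⟨l', hl', hσl'⟩ := hsup k hk
        refine ⟨l', hl', ?_⟩
        rw [Function.update_of_ne (fun h => by rw [h] at hl'; have := Fin.le_def.mp hl'; simp [hj0] at this; omega)]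
        exact hσl'
    · set z := v0 - w with hz
      have hzs : ∀ k, ¬ used k → z k = 0 := fun k hk => by simp [hz, w, hk]
      have hw2 : w = w i • w' := by rw [hw', smul_smul, mul_inv_cancel₀ hi', one_smul]
      have hcol : ((p1⁻¹ : GL (Fin n) F) : Matrix (Fin n) (Fin n) F) *ᵥ colv y j0 = z + w i • Pi.single i 1 := by
        rw [← hv0, show v0 = z + w by simp [hz], Matrix.mulVec_add, hinvfix z hzs]
        conv_lhs => arg 2; rw [hw2]
        rw [Matrix.mulVec_smul, inv_mulVec_of p1 ((mulVec_single' p1 i).trans hp1i)]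
      refine ⟨?_, fun k hk => ?_⟩
      · rw [Function.update_self, hkey, hcol]
        simp [hzs i hiused, hi']
      · rw [hkey, hcol] at hk
        by_cases hki : k = i
        · exact ⟨j0, le_rfl, by rw [Function.update_self, hki]⟩
        · simp [hki] at hk
          have hku : used k := by by_contra h; exact hk (hzs k h)
          obtain ⟨l', hl', rfl⟩ := hku
          refine ⟨l', Fin.le_def.mpr (by simp [hj0]; omega), ?_⟩
          rw [Function.update_of_ne (fun h => by rw [h] at hl'; simp [hj0] at hl')]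

/-- A diagonal isometry conjugated into a common frame. -/
theorem exists_torus_lift (hn : Even n) (hφ : ∀ x, φ (φ x) = x) (x b : GL (Fin n) F) (hx : x ∈ GJ φ n)
    (hb : b ∈ GJ φ n) (hbt : (b : Matrix (Fin n) (Fin n) F).BlockTriangular id) :
    ∃ t ∈ GJ φ n, (t : Matrix (Fin n) (Fin n) F).BlockTriangular id ∧
      (∀ l, (t : Matrix (Fin n) (Fin n) F) l l = (b : Matrix (Fin n) (Fin n) F) l l) ∧
      ((x⁻¹ * t * x : GL (Fin n) F) : Matrix (Fin n) (Fin n) F).BlockTriangular id := by
  classical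
  obtain ⟨m, hm⟩ := hn
  obtain ⟨p, hp, hpt, σ, hσ⟩ := exists_common_frame φ ⟨m, hm⟩ hφ x hx m (by omega)
  haveI := b.invertible
  have hne : ∀ l, (b : Matrix (Fin n) (Fin n) F) l l ≠ 0 := by
    intro l h
    apply (Matrix.GeneralLinearGroup.det b).ne_zero
    rw [Matrix.GeneralLinearGroup.val_det_apply, Matrix.det_of_isUpperTriangular hbt]
    exact Finset.prod_eq_zero (Finset.mem_univ l) h
  set d := fun l => (b : Matrix (Fin n) (Fin n) F) l l with hd
  have hmuldiag : ∀ (X Y : Matrix (Fin n) (Fin n) F), X.BlockTriangular id → Y.BlockTriangular id →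
      ∀ a, (X * Y) a a = X a a * Y a a := by
    intro X Y hX hY a
    rw [Matrix.mul_apply, Finset.sum_eq_single a]
    · intro k _ hk
      rcases lt_or_gt_of_ne hk with h | h
      · rw [hX h, zero_mul]
      · rw [hY h, mul_zero]
    · simp
  have hbinv : ∀ {c : GL (Fin n) F}, (c : Matrix (Fin n) (Fin n) F).BlockTriangular id →
      ((c⁻¹ : GL (Fin n) F) : Matrix (Fin n) (Fin n) F).BlockTriangular id := by
    intro c hc
    haveI := c.invertible
    rw [Matrix.coe_units_inv]
    exact Matrix.blockTriangular_inv_of_blockTriangular hc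
  have hdd : ∀ l, φ (d l.rev) * d l = 1 := by
    intro l
    have h1 := inv_apply φ hφ hb l l
    have h2 : ((b⁻¹ : GL (Fin n) F) : Matrix (Fin n) (Fin n) F) l l * d l = 1 := by
      rw [hd, ← hmuldiag _ _ (hbinv hbt) hbt, ← Units.val_mul, inv_mul_cancel, Units.val_one, Matrix.one_apply_eq]
    rw [h1] at h2
    exact h2
  let D : GL (Fin n) F :=
    ⟨Matrix.diagonal d, Matrix.diagonal fun l => (d l)⁻¹,
      by rw [Matrix.diagonal_mul_diagonal, ← Matrix.diagonal_one]; congr 1; funext l; exact mul_inv_cancel₀ (hne l),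
      by rw [Matrix.diagonal_mul_diagonal, ← Matrix.diagonal_one]; congr 1; funext l; exact inv_mul_cancel₀ (hne l)⟩
  have hDv : (D : Matrix (Fin n) (Fin n) F) = Matrix.diagonal d := rfl
  have hD : D ∈ GJ φ n := by
    intro u v
    rw [hDv, hJ, hJ]
    refine Finset.sum_congr rfl fun l _ => ?_
    rw [Matrix.mulVec_diagonal, Matrix.mulVec_diagonal, map_mul]
    have := hdd l.rev
    rw [Fin.rev_rev] at this
    linear_combination φ (u l) * v l.rev * this
  have hDt : (D : Matrix (Fin n) (Fin n) F).BlockTriangular id := Matrix.blockTriangular_diagonal _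
  refine ⟨p * D * p⁻¹, mul_mem (mul_mem hp hD) (inv_mem hp), ?_, fun l => ?_, ?_⟩
  · rw [Units.val_mul, Units.val_mul]
    exact (hpt.mul hDt).mul (hbinv hpt)
  · rw [Units.val_mul, Units.val_mul, hmuldiag _ _ (hpt.mul hDt) (hbinv hpt), hmuldiag _ _ hpt hDt]
    have h1 : (p : Matrix (Fin n) (Fin n) F) l l * ((p⁻¹ : GL (Fin n) F) : Matrix (Fin n) (Fin n) F) l l = 1 := by
      rw [← hmuldiag _ _ hpt (hbinv hpt), ← Units.val_mul, mul_inv_cancel, Units.val_one, Matrix.one_apply_eq]
    rw [hDv, Matrix.diagonal_apply_eq]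
    linear_combination d l * h1
  · set y := p⁻¹ * x with hydef
    set Y := (y : Matrix (Fin n) (Fin n) F)
    have hE : ∀ (E : GL (Fin n) F) (e : Fin n → F), (E : Matrix (Fin n) (Fin n) F) = Matrix.diagonal e →
        ∀ l a : Fin n, (l : ℕ) < m → l < a →
        ((y⁻¹ * E * y : GL (Fin n) F) : Matrix (Fin n) (Fin n) F) a l = 0 := by
      intro E e hEv l a hl hla
      -- vectors supported on the first images are images of short vectors
      have key : ∀ L : ℕ, ∀ L' : Fin n, (L' : ℕ) = L → L < m → ∀ a, L' < a →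
          ∀ z : Fin n → F, (∀ k, z k ≠ 0 → ∃ l' : Fin n, l' ≤ L' ∧ σ l' = k) →
          (((y⁻¹ : GL (Fin n) F) : Matrix (Fin n) (Fin n) F) *ᵥ z) a = 0 := by
        intro L
        induction L using Nat.strong_induction_on with
        | _ L ihL =>
          intro L' hL' hLm a ha z hz
          obtain ⟨hne', hsup⟩ := hσ L' (hL' ▸ hLm)
          set c := z (σ L') / Y (σ L') L'
          set z' := z - c • colv y L'
          have hsplit : z = z' + c • colv y L' := by simp [z']
          rw [hsplit, Matrix.mulVec_add, Matrix.mulVec_smul, inv_mulVec_of y (mulVec_single' y L'),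
            Pi.add_apply, Pi.smul_apply, Pi.single_eq_of_ne ha.ne', smul_zero, add_zero]
          have hz' : ∀ k, z' k ≠ 0 → ∃ l' : Fin n, l' < L' ∧ σ l' = k := by
            intro k hk
            have hkne : k ≠ σ L' := by
              rintro rfl
              apply hk
              simp only [z', c, Pi.sub_apply, Pi.smul_apply, smul_eq_mul, colv]
              rw [div_mul_cancel₀ _ hne', sub_self]
            obtain ⟨l', hl', hσl'⟩ : ∃ l' : Fin n, l' ≤ L' ∧ σ l' = k := by
              by_cases h : z k = 0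
              · refine hsup k fun h' => hk ?_
                simp only [z', Pi.sub_apply, Pi.smul_apply, smul_eq_mul, colv, h]
                show 0 - c * Y k L' = 0
                rw [show Y k L' = 0 from h', mul_zero, sub_zero]
              · exact hz k h
            exact ⟨l', lt_of_le_of_ne hl' (fun h => hkne (by rw [← hσl', h])), hσl'⟩
          by_cases hall : ∀ k, z' k = 0
          · rw [show z' = 0 from funext hall, Matrix.mulVec_zero]; rfl
          push Not at hall
          obtain ⟨k, hk⟩ := hall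
          obtain ⟨l', hl', -⟩ := hz' k hk
          have hpos : 0 < (L' : ℕ) := lt_of_le_of_lt (Nat.zero_le _) (Fin.lt_def.mp hl')
          refine ihL ((L' : ℕ) - 1) (by omega) ⟨(L' : ℕ) - 1, by omega⟩ rfl (by omega) a
            (Fin.lt_def.mpr (show (L' : ℕ) - 1 < (a : ℕ) by have := Fin.lt_def.mp ha; omega)) z' fun k hk => ?_
          obtain ⟨l'', hl'', h⟩ := hz' k hk
          exact ⟨l'', Fin.le_def.mpr (show (l'' : ℕ) ≤ (L' : ℕ) - 1 by have := Fin.lt_def.mp hl''; omega), h⟩
      show colv (y⁻¹ * E * y) l a = 0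
      rw [colv_mul, Units.val_mul, ← Matrix.mulVec_mulVec, hEv]
      refine key l l rfl hl a hla _ fun k hk => ?_
      rw [Matrix.mulVec_diagonal] at hk
      exact (hσ l hl).2 k (right_ne_zero_of_mul hk)
    have hxy : x⁻¹ * (p * D * p⁻¹) * x = y⁻¹ * D * y := by rw [hydef]; group
    rw [hxy]
    have hy : y ∈ GJ φ n := mul_mem (inv_mem hp) hx
    refine blockTriangular_of_half φ hφ (mul_mem (mul_mem (inv_mem hy) hD) hy) m hm fun l a hl hla => ⟨?_, ?_⟩
    · exact hE D d rfl l a hl hla
    · rw [show (y⁻¹ * D * y)⁻¹ = y⁻¹ * D⁻¹ * y by group]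
      exact hE D⁻¹ (fun l => (d l)⁻¹) rfl l a hl hla

/-- The normaliser of the unitriangular isometries is triangular. -/
theorem blockTriangular_of_normalizes (hn : Even n) (b : GL (Fin n) F) (hb : ∀ u : GL (Fin n) F, u ∈ GJ φ n →
      (u : Matrix (Fin n) (Fin n) F).BlockTriangular id → (∀ l, (u : Matrix (Fin n) (Fin n) F) l l = 1) →
      ((b⁻¹ * u * b : GL (Fin n) F) : Matrix (Fin n) (Fin n) F).BlockTriangular id ∧
        ∀ l, ((b⁻¹ * u * b : GL (Fin n) F) : Matrix (Fin n) (Fin n) F) l l = 1) :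
    (b : Matrix (Fin n) (Fin n) F).BlockTriangular id := by
  classical
  suffices h : ∀ c : ℕ, ∀ C : Fin n, (C : ℕ) = c → ∀ a, C < a → (b : Matrix (Fin n) (Fin n) F) a C = 0 from
    fun a C hac => h C C rfl a hac
  intro c
  induction c using Nat.strong_induction_on with
  | _ c ih =>
    intro C hC a0 ha0
    by_contra hne
    obtain ⟨a, ha, hmax⟩ := Finset.exists_max_image
      (Finset.univ.filter fun a => (b : Matrix (Fin n) (Fin n) F) a C ≠ 0) id
      ⟨a0, Finset.mem_filter.mpr ⟨Finset.mem_univ _, hne⟩⟩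
    have ha' := (Finset.mem_filter.mp ha).2
    have hCa : C < a := lt_of_lt_of_le ha0 (hmax a0 (Finset.mem_filter.mpr ⟨Finset.mem_univ _, hne⟩))
    obtain ⟨a', haa'⟩ : ∃ a' : Fin n, (a' : ℕ) + 1 = a :=
      ⟨⟨(a : ℕ) - 1, by omega⟩, by simp only; have := Fin.lt_def.mp hCa; omega⟩
    have hlt : a' < a := Fin.lt_def.mpr (by omega)
    let e : Fin n → Fin n → F := fun l =>
      if l = a then Pi.single a 1 + Pi.single a' 1
      else if l = a'.rev then Pi.single a'.rev 1 + Pi.single a.rev 1 else Pi.single l 1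
    have hfl : ∀ x y : Fin n, x.rev = y ↔ y.rev = x := fun x y =>
      ⟨fun h => by rw [← h, Fin.rev_rev], fun h => by rw [← h, Fin.rev_rev]⟩
    have hne1 : a' ≠ a := hlt.ne
    have hne2 : a'.rev ≠ a.rev := fun h => hne1 (Fin.rev_injective h)
    have r1 := rev_ne hn a
    have r2 := rev_ne hn a'
    have ea : e a = Pi.single a 1 + Pi.single a' 1 := if_pos rfl
    have eo : ∀ l, l ≠ a → l ≠ a'.rev → e l = Pi.single l 1 := fun l h1 h2 => by simp [e, h1, h2]
    have haa : hJ φ (e a) (e a) = if a.rev = a then 1 else 0 := by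
      rw [ea, hJ_add_left, hJ_add_right, hJ_add_right, hJ_single_single, hJ_single_single,
        hJ_single_single, hJ_single_single, if_neg r1, if_neg r2]
      by_cases h : a.rev = a'
      · rw [if_pos h, if_pos (by rw [← h, Fin.rev_rev]), zero_add, add_zero]; exact self_inv_add _
      · rw [if_neg h, if_neg (fun h' => h (by rw [← h', Fin.rev_rev]))]; simp
    have hao : ∀ l, l ≠ a → l ≠ a'.rev → hJ φ (e a) (e l) = if a.rev = l then 1 else 0 := by
      intro l h1 h2
      rw [ea, eo l h1 h2, hJ_add_left, hJ_single_single, hJ_single_single, if_neg (Ne.symm h2), add_zero]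
    have hoa : ∀ k, k ≠ a → k ≠ a'.rev → hJ φ (e k) (e a) = if k.rev = a then 1 else 0 := by
      intro k h1 h2
      rw [ea, eo k h1 h2, hJ_add_right, hJ_single_single, hJ_single_single,
        if_neg (fun h : k.rev = a' => h2 (by rw [← h, Fin.rev_rev])), add_zero]
    have hoo : ∀ k l, k ≠ a → k ≠ a'.rev → l ≠ a → l ≠ a'.rev →
        hJ φ (e k) (e l) = if k.rev = l then 1 else 0 := fun k l h1 h2 h3 h4 => by
      rw [eo k h1 h2, eo l h3 h4, hJ_single_single]
    have he : ∀ k l, hJ φ (e k) (e l) = if k.rev = l then 1 else 0 := by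
      intro k l
      by_cases hc : a'.rev = a
      · by_cases hk : k = a <;> by_cases hl : l = a
        · rw [hk, hl]; exact haa
        · rw [hk]; exact hao l hl (hc ▸ hl)
        · rw [hl]; exact hoa k hk (hc ▸ hk)
        · exact hoo k l hk (hc ▸ hk) hl (hc ▸ hl)
      · have ec : e a'.rev = Pi.single a'.rev 1 + Pi.single a.rev 1 := by simp [e, hc]
        have h3 : a.rev ≠ a' := fun h => hc (by rw [← h, Fin.rev_rev])
        have hcc : hJ φ (e a'.rev) (e a'.rev) = if a'.rev.rev = a'.rev then 1 else 0 := by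
          rw [ec, hJ_add_left, hJ_add_right, hJ_add_right, hJ_single_single, hJ_single_single,
            hJ_single_single, hJ_single_single, Fin.rev_rev, Fin.rev_rev, if_neg r2.symm, if_neg h3.symm,
            if_neg (Ne.symm hc), if_neg r1.symm]
          simp
        have hac : hJ φ (e a) (e a'.rev) = if a.rev = a'.rev then 1 else 0 := by
          rw [ea, ec, hJ_add_left, hJ_add_right, hJ_add_right, hJ_single_single, hJ_single_single,
            hJ_single_single, hJ_single_single, if_pos rfl, if_pos rfl, if_neg hne2.symm, if_neg hne2]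
          simpa using self_inv_add (1 : F)
        have hca : hJ φ (e a'.rev) (e a) = if a'.rev.rev = a then 1 else 0 := by
          rw [ea, ec, hJ_add_left, hJ_add_right, hJ_add_right, hJ_single_single, hJ_single_single,
            hJ_single_single, hJ_single_single, Fin.rev_rev, Fin.rev_rev, if_neg hne1, if_pos rfl, if_pos rfl,
            if_neg hne1.symm]
          simpa using self_inv_add (1 : F)
        have hco : ∀ l, l ≠ a → l ≠ a'.rev → hJ φ (e a'.rev) (e l) = if a'.rev.rev = l then 1 else 0 := by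
          intro l h1 h2
          rw [ec, eo l h1 h2, hJ_add_left, hJ_single_single, hJ_single_single, Fin.rev_rev, Fin.rev_rev,
            if_neg (Ne.symm h1), add_zero]
        have hoc : ∀ k, k ≠ a → k ≠ a'.rev → hJ φ (e k) (e a'.rev) = if k.rev = a'.rev then 1 else 0 := by
          intro k h1 h2
          rw [ec, eo k h1 h2, hJ_add_right, hJ_single_single, hJ_single_single,
            if_neg (fun h : k.rev = a.rev => h1 (Fin.rev_injective h)), add_zero]
        by_cases hk : k = a
        · rw [hk]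
          by_cases hl : l = a
          · rw [hl]; exact haa
          by_cases hl' : l = a'.rev
          · rw [hl']; exact hac
          exact hao l hl hl'
        by_cases hk' : k = a'.rev
        · rw [hk']
          by_cases hl : l = a
          · rw [hl]; exact hca
          by_cases hl' : l = a'.rev
          · rw [hl']; exact hcc
          exact hco l hl hl'
        by_cases hl : l = a
        · rw [hl]; exact hoa k hk hk'
        by_cases hl' : l = a'.rev
        · rw [hl']; exact hoc k hk hk'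
        exact hoo k l hk hk' hl hl'
    obtain ⟨u, hu, hcol⟩ := exists_gl_of_columns φ e he
    have huv : ∀ r l, (u : Matrix (Fin n) (Fin n) F) r l = e l r := fun r l => congrFun (hcol l) r
    have hut : (u : Matrix (Fin n) (Fin n) F).BlockTriangular id := by
      intro r l hrl
      simp only [id] at hrl
      rw [huv]
      simp only [e]
      have hne1 : r ≠ l := hrl.ne'
      split_ifs with h1 h2
      · have hra' : r ≠ a' := fun h => by
          rw [h, h1] at hrl; exact absurd hrl (not_lt.mpr hlt.le)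
        simp [h1 ▸ hne1, hra']
      · have hra : r ≠ a.rev := fun h => by
          rw [h, h2] at hrl; exact absurd (Fin.rev_lt_rev.mp hrl) (not_lt.mpr hlt.le)
        simp [h2 ▸ hne1, hra]
      · simp [hne1]
    have hu1 : ∀ l, (u : Matrix (Fin n) (Fin n) F) l l = 1 := by
      intro l
      rw [huv]
      simp only [e]
      split_ifs with h1 h2
      · simp [h1, hlt.ne']
      · have : a'.rev ≠ a.rev := fun h => hlt.ne (Fin.rev_injective h)
        simp [h2, this]
      · simp
    obtain ⟨h1, h2⟩ := hb u hu hut hu1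
    set u' := b⁻¹ * u * b with hu'
    have hbu : colv (u * b) C = colv (b * u') C := by rw [hu']; congr 1; group
    have hleft : colv (u * b) C a' = (b : Matrix (Fin n) (Fin n) F) a C + (b : Matrix (Fin n) (Fin n) F) a' C := by
      rw [colv_mul, mulVec_eq_sum]
      simp only [colv]
      have key : ∀ l, (u : Matrix (Fin n) (Fin n) F) a' l * (b : Matrix (Fin n) (Fin n) F) l C =
          (if l = a then (b : Matrix (Fin n) (Fin n) F) l C else 0) +
            (if l = a' then (b : Matrix (Fin n) (Fin n) F) l C else 0) := by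
        intro l
        rw [huv]
        by_cases hla : l = a
        · rw [hla, ea, if_pos rfl, if_neg hne1.symm]
          simp [hne1]
        by_cases hlc : l = a'.rev
        · have h3 : a.rev ≠ a' := fun h => hla (by rw [hlc, ← h, Fin.rev_rev])
          rw [hlc] at hla ⊢
          rw [if_neg hla, if_neg r2]
          simp [e, hla, h3.symm, r2.symm]
        · rw [eo l hla hlc, if_neg hla]
          by_cases hla' : l = a'
          · simp [hla']
          · simp [hla', Ne.symm hla']
      rw [Finset.sum_congr rfl fun l _ => key l, Finset.sum_add_distrib, Finset.sum_ite_eq', Finset.sum_ite_eq']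
      simp
    have hright : colv (b * u') C a' = (b : Matrix (Fin n) (Fin n) F) a' C := by
      rw [colv_mul, mulVec_eq_sum, Finset.sum_eq_single C]
      · rw [colv, h2, mul_one]
      · intro l _ hl
        rcases lt_or_gt_of_ne hl with h | h
        · have : C ≤ a' := Fin.le_def.mpr (by have := Fin.lt_def.mp hCa; omega)
          rw [ih (l : ℕ) (hC ▸ Fin.lt_def.mp h) l rfl a' (lt_of_lt_of_le h this), zero_mul]
        · rw [colv, h1 h, mul_zero]
      · simp
    rw [← hbu, hleft] at hright
    exact ha' (by simpa using hright)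

end CfsgLib.PronormalPSU.Frames
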