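import Cfsg.Agent.Lib.PronormalPSU.Base
import Cfsg.Agent.Lib.Classical.Herm.Field
import Cfsg.Agent.Lib.Conj.Unitary

/-! For `q` odd and `d = 2^w ≥ 4`, the Sylow 2-subgroups of `SU_d(q)` are self-normalising. -/

set_option autoImplicit false
set_option linter.style.haveILetI false

namespace CfsgLib.PronormalPSU

open Matrix CfsgLib.PronormalPSL

variable {F : Type*} [Field F] [Fintype F] {q : ℕ}

theorem good_and_strong (φ : F →+* F) (hq : ∀ x, φ x = x ^ q) (hF : Fintype.card F = q ^ 2)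
    (hodd : Odd q) : ∀ k : ℕ, 1 ≤ k →
    ∃ (ι : Type) (_ : Fintype ι) (_ : DecidableEq ι), Fintype.card ι = 2 ^ k ∧ GoodU φ ι ∧
      (2 ≤ k → StrongU φ ι) := by
  have h2 : (2 : F) ≠ 0 := Ring.two_ne_zero fun h => by
    have : CharP F 2 := ringChar.of_eq h
    have h' := FiniteField.even_card_of_char_two h
    rw [hF, Nat.pow_mod, Nat.odd_iff.mp hodd] at h'
    norm_num at h'
  intro k hk
  induction k, hk using Nat.le_induction with
  | base =>
    rcases (show q % 4 = 1 ∨ q % 4 = 3 by rw [Nat.odd_iff] at hodd; omega) with h | h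
    · exact ⟨Fin 2, inferInstance, inferInstance, by simp, good_two_of_one φ hq hF h, by omega⟩
    · exact ⟨Fin 1 ⊕ Fin 1, inferInstance, inferInstance, by simp, good_two_of_three φ hq hF h, by omega⟩
  | succ k hk ih =>
    obtain ⟨ι, i1, i2, hcard, hgood, -⟩ := ih
    haveI : Nonempty ι := Fintype.card_pos_iff.mp (by rw [hcard]; exact Nat.two_pow_pos k)
    obtain ⟨hg, hst⟩ := good_step φ ι h2 (by rw [hcard]; exact ((Nat.even_pow).mpr ⟨even_two, by omega⟩))
      hgood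
    exact ⟨ι ⊕ ι, inferInstance, inferInstance, by rw [Fintype.card_sum, hcard, pow_succ]; ring, hg,
      fun _ => hst⟩

/-- A self-normalising subgroup test for Sylow subgroups. -/
theorem sylow_self_normalizing_of_exists {G : Type*} [Group G] [Finite G] {p : ℕ} [Fact p.Prime]
    (X : Subgroup G) (hX : IsPGroup p X) (hN : ∀ g, (∀ x ∈ X, g * x * g⁻¹ ∈ X) → g ∈ X) :
    ∀ P : Sylow p G, Subgroup.normalizer (P : Set G) ≤ P := by
  obtain ⟨Q, hQ⟩ := hX.exists_le_sylow
  have hQX : (Q : Subgroup G) = X := by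
    refine le_antisymm ?_ hQ
    by_contra hne
    have hlt : X.subgroupOf Q < ⊤ := lt_top_iff_ne_top.mpr fun h => hne (Subgroup.subgroupOf_eq_top.mp h)
    haveI : Group.IsNilpotent (Q : Subgroup G) := Q.isPGroup'.isNilpotent
    obtain ⟨u, hu, hu'⟩ := SetLike.exists_of_lt (normalizerCondition_of_isNilpotent _ hlt)
    refine hu' (Subgroup.mem_subgroupOf.mpr (hN u fun x hx => ?_))
    exact Subgroup.mem_subgroupOf.mp ((Subgroup.mem_normalizer_iff.mp hu ⟨x, hQ hx⟩).mp hx)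
  intro P g hg
  obtain ⟨a, ha⟩ := MulAction.exists_smul_eq G Q P
  have hmem : ∀ x, x ∈ P ↔ a⁻¹ * x * a ∈ X := by
    intro x
    rw [← hQX, ← ha]
    show x ∈ ((a • Q : Sylow p G) : Subgroup G) ↔ _
    simp [Sylow.coe_subgroup_smul, Subgroup.mem_pointwise_smul_iff_inv_smul_mem, MulAut.smul_def,
      mul_assoc]
  rw [SetLike.mem_coe.symm]
  show g ∈ P
  rw [hmem]
  refine hN _ fun x hx => ?_
  have hxP : a * x * a⁻¹ ∈ P := (hmem _).mpr (by
    convert hx using 1; group)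
  have := (hmem _).mp ((Subgroup.mem_normalizer_iff.mp hg _).mp hxP)
  convert this using 1
  group

/-- Every Sylow 2-subgroup of `SU_d(q)`, `q` odd, `d = 2^w ≥ 4`, is self-normalising. -/
theorem sylow_SU_self_normalizing (hF : Fintype.card F = q ^ 2) (hodd : Odd q) (w : ℕ) (hw : 2 ≤ w) :
    ∀ P : Sylow 2 (Cfsg.SU (2 ^ w) F q),
      Subgroup.normalizer (P : Set (Cfsg.SU (2 ^ w) F q)) ≤ P := by
  haveI : Fact (Nat.Prime 2) := ⟨Nat.prime_two⟩
  set φ := CfsgLib.Classical.Herm.qPow hF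
  have hq : ∀ x, φ x = x ^ q := fun _ => rfl
  have hφ2 : ∀ x, φ (φ x) = x := fun x => CfsgLib.Classical.Herm.qPow_qPow hF x
  obtain ⟨ι, i1, i2, hcard, -, hst⟩ := good_and_strong φ hq hF hodd w (by omega)
  obtain ⟨X, hXU, hX2, hXA, hXB⟩ := hst hw
  let e : ι ≃ Fin (2 ^ w) := Fintype.equivFinOfCardEq hcard
  let E : GL ι F ≃* GL (Fin (2 ^ w)) F := Units.mapEquiv (Matrix.reindexAlgEquiv F F e).toMulEquiv
  let θ : Cfsg.SU (2 ^ w) F q →* GL ι F :=
    E.symm.toMonoidHom.comp ((Matrix.SpecialLinearGroup.toGL).comp (Cfsg.SU (2 ^ w) F q).subtype)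
  have hθinj : Function.Injective θ := E.symm.injective.comp
    (Matrix.SpecialLinearGroup.toGL_injective.comp Subtype.val_injective)
  have hrange : ∀ g : GL ι F, g ∈ θ.range ↔ g ∈ UGI φ ι ⊓ detKer ι F := by
    have hdet : ∀ u : GL ι F, ((E u : GL _ F) : Matrix (Fin (2 ^ w)) (Fin (2 ^ w)) F).det =
        (u : Matrix ι ι F).det := fun u => Matrix.det_reindexAlgEquiv F F e (u : Matrix ι ι F)
    have hU : ∀ u : GL ι F, u ∈ UGI φ ι ↔ E u ∈ Cfsg.GU (2 ^ w) F q := by
      intro u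
      rw [CfsgLib.Conj.mem_GU_iff φ hq hφ2, mem_UGI]
      have e1 : CfsgLib.Conj.conjT φ ((E u : GL _ F) : Matrix (Fin (2 ^ w)) (Fin (2 ^ w)) F) *
          ((E u : GL _ F) : Matrix (Fin (2 ^ w)) (Fin (2 ^ w)) F) =
          Matrix.reindexAlgEquiv F F e (((u : Matrix ι ι F).map φ)ᵀ * (u : Matrix ι ι F)) := by
        rw [map_mul]; rfl
      rw [e1, ← EmbeddingLike.map_eq_one_iff (f := Matrix.reindexAlgEquiv F F e)]
    intro g
    constructor
    · rintro ⟨s, rfl⟩
      refine ⟨(hU _).mpr ?_, ?_⟩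
      · show E (E.symm (Matrix.SpecialLinearGroup.toGL (s : Matrix.SpecialLinearGroup (Fin (2 ^ w)) F))) ∈ _
        rw [MulEquiv.apply_symm_apply]
        exact s.2
      · show DetOne _
        rw [DetOne, ← hdet]
        show (((E (E.symm (Matrix.SpecialLinearGroup.toGL (s : Matrix.SpecialLinearGroup (Fin (2 ^ w)) F)))) :
          GL _ F) : Matrix (Fin (2 ^ w)) (Fin (2 ^ w)) F).det = 1
        rw [MulEquiv.apply_symm_apply]
        exact s.1.2
    · rintro ⟨hg1, hg2⟩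
      refine ⟨⟨⟨_, (hdet g).trans hg2⟩, (hU g).mp hg1⟩, ?_⟩
      show E.symm _ = g
      rw [MulEquiv.symm_apply_eq]
      exact Units.ext rfl
  refine sylow_self_normalizing_of_exists (X.comap θ) ?_ ?_
  · rintro ⟨x, hx⟩
    obtain ⟨k, hk⟩ := hX2 _ hx
    exact ⟨k, Subtype.ext (hθinj (by simpa using hk))⟩
  · intro g hg
    have hgU : θ g ∈ UGI φ ι ⊓ detKer ι F := (hrange _).mp ⟨g, rfl⟩
    have hn : ∀ x ∈ X, θ g * x * (θ g)⁻¹ ∈ X := by
      intro x hx
      obtain ⟨y, rfl⟩ := (hrange x).mpr (hXU hx)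
      rw [← map_inv, ← map_mul, ← map_mul]
      exact hg y hx
    refine hXB _ hgU hn ?_
    obtain ⟨N, l, hl⟩ := hXA _ hgU.1 hn
    refine ⟨N + w, ?_⟩
    rw [pow_add, pow_mul, hl, ← map_pow]
    have h1 : (l : F) ^ 2 ^ w = 1 := by
      have h := congrArg (fun u : GL ι F => (u : Matrix ι ι F).det) hl
      simp only [Units.val_pow_eq_pow_val, Matrix.det_pow, coe_scalarU, Matrix.det_diagonal,
        Finset.prod_const, Finset.card_univ, hcard] at h
      rw [← h, mem_detKer.mp hgU.2, one_pow]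
    rw [show l ^ 2 ^ w = 1 from Units.ext (by simpa using h1), map_one]

end CfsgLib.PronormalPSU
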