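import Cfsg.Agent.Lib.PronormalPSL.GLBase

/-! Self-normalising Sylow 2-subgroups of unitary groups of 2-power dimension: the inductive step. -/

set_option autoImplicit false
set_option linter.style.haveILetI false

namespace CfsgLib.PronormalPSU

open Matrix CfsgLib.PronormalPSL

variable {F : Type*} [Field F] (φ : F →+* F) {ι : Type*} [Fintype ι] [DecidableEq ι]

/-- The unitary group of the standard form for the field automorphism `φ`. -/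
def UGI (ι : Type*) [Fintype ι] [DecidableEq ι] : Subgroup (GL ι F) where
  carrier := {g | ((g : Matrix ι ι F).map φ)ᵀ * (g : Matrix ι ι F) = 1}
  one_mem' := by
    simp [Matrix.map_one _ φ.map_zero φ.map_one]
  mul_mem' := by
    intro a b ha hb
    simp only [Set.mem_setOf_eq] at ha hb ⊢
    rw [Units.val_mul, Matrix.map_mul, Matrix.transpose_mul]
    calc _ = ((b : Matrix ι ι F).map φ)ᵀ * (((a : Matrix ι ι F).map φ)ᵀ * (a : Matrix ι ι F)) *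
        (b : Matrix ι ι F) := by simp only [Matrix.mul_assoc]
      _ = 1 := by rw [ha, Matrix.mul_one, hb]
  inv_mem' := by
    intro a ha
    simp only [Set.mem_setOf_eq] at ha ⊢
    have h1 : (((a⁻¹ : GL ι F) : Matrix ι ι F).map φ)ᵀ * ((a : Matrix ι ι F).map φ)ᵀ = 1 := by
      rw [← Matrix.transpose_mul, ← Matrix.map_mul, ← Units.val_mul, mul_inv_cancel, Units.val_one,
        Matrix.map_one _ φ.map_zero φ.map_one, Matrix.transpose_one]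
    calc _ = (((a⁻¹ : GL ι F) : Matrix ι ι F).map φ)ᵀ *
          (((a : Matrix ι ι F).map φ)ᵀ * (a : Matrix ι ι F)) * ((a⁻¹ : GL ι F) : Matrix ι ι F) := by
            rw [ha, Matrix.mul_one]
      _ = 1 := by
            rw [← Matrix.mul_assoc, h1, Matrix.one_mul, ← Units.val_mul, mul_inv_cancel, Units.val_one]

theorem mem_UGI {g : GL ι F} :
    g ∈ UGI φ ι ↔ ((g : Matrix ι ι F).map φ)ᵀ * (g : Matrix ι ι F) = 1 := Iff.rfl

theorem blockU_mem_UGI {a b : GL ι F} :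
    blockU (a, b) ∈ UGI φ (ι ⊕ ι) ↔ a ∈ UGI φ ι ∧ b ∈ UGI φ ι := by
  simp only [mem_UGI, coe_blockU, Matrix.fromBlocks_map, Matrix.fromBlocks_transpose,
    Matrix.map_zero _ φ.map_zero, Matrix.transpose_zero, Matrix.fromBlocks_multiply, Matrix.mul_zero,
    Matrix.zero_mul, add_zero, zero_add, ← Matrix.fromBlocks_one, Matrix.fromBlocks_inj, true_and]

theorem swapJ_mem_UGI : (swapJ : GL (ι ⊕ ι) F) ∈ UGI φ (ι ⊕ ι) := by
  simp only [mem_UGI, coe_swapJ, Matrix.fromBlocks_map, Matrix.fromBlocks_transpose,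
    Matrix.map_zero _ φ.map_zero, Matrix.map_one _ φ.map_zero φ.map_one]
  rw [show ((-1 : Matrix ι ι F).map φ) = -1 by
    ext i j; simp [Matrix.one_apply, apply_ite φ]]
  simp [Matrix.fromBlocks_multiply]

theorem neg_one_mem_UGI : (-1 : GL ι F) ∈ UGI φ ι := by
  rw [mem_UGI, Units.val_neg, Units.val_one]
  rw [show ((-1 : Matrix ι ι F).map φ) = -1 by ext i j; simp [Matrix.one_apply, apply_ite φ]]
  simp

/-- A 2-element normalising a 2-subgroup generates a 2-group with it. -/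
theorem mul_pow_two_eq_one {G : Type*} [Group G] {X : Subgroup G} (hX : ∀ x ∈ X, ∃ k : ℕ, x ^ 2 ^ k = 1)
    {g : G} (hg : ∃ k : ℕ, g ^ 2 ^ k = 1) (hn : ∀ y, y ∈ X ↔ g * y * g⁻¹ ∈ X) {x : G} (hx : x ∈ X) :
    ∃ k : ℕ, (g * x) ^ 2 ^ k = 1 := by
  have hXp : IsPGroup 2 X := fun a => by
    obtain ⟨k, hk⟩ := hX a a.2
    exact ⟨k, Subtype.ext (by simpa using hk)⟩
  have hgp : IsPGroup 2 (Subgroup.zpowers g) := by
    obtain ⟨m, hm⟩ := hg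
    rintro ⟨_, k, rfl⟩
    refine ⟨m, Subtype.ext ?_⟩
    show (g ^ k) ^ 2 ^ m = 1
    rw [← zpow_natCast, ← _root_.zpow_mul, mul_comm, _root_.zpow_mul, zpow_natCast, hm, _root_.one_zpow]
  have hle : Subgroup.zpowers g ≤ Subgroup.normalizer (X : Set G) :=
    Subgroup.zpowers_le.mpr (Subgroup.mem_normalizer_iff.mpr hn)
  obtain ⟨k, hk⟩ := hgp.to_sup_of_normal_right' hXp hle
    ⟨g * x, Subgroup.mul_mem_sup (Subgroup.mem_zpowers g) hx⟩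
  exact ⟨k, by simpa using congrArg Subtype.val hk⟩

/-- The 2-elements normalising a large subgroup of `T wr 2` lie in `T wr 2`. -/
theorem mem_wr2_of_two_element [Nonempty ι] {T : Subgroup (GL ι F)} {hT : (-1 : GL ι F) ∈ T}
    {T1 : Subgroup (GL ι F)} (hcent : ∀ a : GL ι F, (∀ c ∈ T1, a * c = c * a) → IsScalarU a)
    {X : Subgroup (GL (ι ⊕ ι) F)} (hX1 : ∀ c ∈ T1, blockU (c, 1) ∈ X) (hXJ : swapJ ∈ X)
    (hXz : blockU (1, (-1 : GL ι F)) ∈ X) (h2 : (2 : F) ≠ 0) (hc : ∃ c ∈ T1, c * c ≠ 1)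
    (hXS : X ≤ wr2 T hT) (hXT : ∀ t ∈ T, blockU (t, t⁻¹) ∈ X)
    (hX2grp : ∀ x ∈ X, ∃ k : ℕ, x ^ 2 ^ k = 1)
    {Gm : Subgroup (GL ι F)} {G2 : Subgroup (GL (ι ⊕ ι) F)}
    (hG : ∀ a b, blockU (a, b) ∈ G2 → a ∈ Gm ∧ b ∈ Gm) (hJG : swapJ ∈ G2)
    (hmax : ∀ A ∈ Gm, (∀ t ∈ T, A * t * A⁻¹ ∈ T) → (∃ k : ℕ, A ^ 2 ^ k = 1) → A ∈ T)
    {g : GL (ι ⊕ ι) F} (hgG : g ∈ G2) (hg : ∀ x, x ∈ X ↔ g * x * g⁻¹ ∈ X)
    (hg2 : ∃ k : ℕ, g ^ 2 ^ k = 1) : g ∈ wr2 T hT := by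
  have main : ∀ u : GL (ι ⊕ ι) F, u ∈ G2 → (∀ x, x ∈ X ↔ u * x * u⁻¹ ∈ X) →
      (∃ k : ℕ, u ^ 2 ^ k = 1) → u * blockU (1, (-1 : GL ι F)) = blockU ((1 : GL ι F), -1) * u →
      u ∈ wr2 T hT := by
    intro u hu hun ⟨k, hk⟩ hcom
    obtain ⟨A, B, rfl⟩ := exists_blockU_of_commute h2 u hcom
    obtain ⟨hA, hB⟩ := hG A B hu
    have hT' : ∀ t ∈ T, A * t * A⁻¹ ∈ T ∧ B * t * B⁻¹ ∈ T := by
      intro t ht
      have h1 := hXS ((hun _).mp (hXT t ht))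
      have h2' := hXS ((hun _).mp (hXT t⁻¹ (T.inv_mem ht)))
      rw [← map_inv, ← map_mul, ← map_mul] at h1 h2'
      exact ⟨(blockU_mem_wr2.mp h1).1, by simpa using (blockU_mem_wr2.mp h2').2⟩
    rw [← map_pow, ← map_one blockU] at hk
    have hk' := blockU_injective hk
    exact blockU_mem_wr2.mpr ⟨hmax A hA (fun t ht => (hT' t ht).1) ⟨k, congrArg Prod.fst hk'⟩,
      hmax B hB (fun t ht => (hT' t ht).2) ⟨k, congrArg Prod.snd hk'⟩⟩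
  rcases conj_z_eq hcent hX1 hXJ hXz h2 hc hXS hg with h | h
  · exact main g hgG hg hg2 (mul_inv_eq_iff_eq_mul.mp h)
  · have hn : ∀ x, x ∈ X ↔ g * swapJ * x * (g * swapJ)⁻¹ ∈ X := by
      intro x
      rw [show g * swapJ * x * (g * swapJ)⁻¹ = g * (swapJ * x * swapJ⁻¹) * g⁻¹ by group, ← hg]
      refine ⟨fun hx => X.mul_mem (X.mul_mem hXJ hx) (X.inv_mem hXJ), fun hx => ?_⟩
      have h' := X.mul_mem (X.mul_mem (X.inv_mem hXJ) hx) hXJ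
      rwa [show swapJ⁻¹ * (swapJ * x * swapJ⁻¹) * swapJ = x by group] at h'
    have hsw : swapJ * blockU (1, (-1 : GL ι F)) = blockU ((-1 : GL ι F), 1) * swapJ :=
      swapJ_mul_blockU _ _
    have hneg : blockU ((-1 : GL ι F), (1 : GL ι F)) =
        scalarU (ι ⊕ ι) (-1) * blockU ((1 : GL ι F), -1) := by
      rw [scalarU_sum, scalarU_neg_one, ← map_mul]
      congr 1
      ext <;> simp
    have hcom : g * swapJ * blockU (1, (-1 : GL ι F)) = blockU ((1 : GL ι F), -1) * (g * swapJ) := by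
      have e1 : g * blockU ((1 : GL ι F), -1) = blockU ((-1 : GL ι F), 1) * g := mul_inv_eq_iff_eq_mul.mp h
      calc g * swapJ * blockU (1, (-1 : GL ι F)) = g * (swapJ * blockU (1, (-1 : GL ι F))) := mul_assoc _ _ _
        _ = g * scalarU (ι ⊕ ι) (-1) * blockU ((1 : GL ι F), -1) * swapJ := by
            rw [hsw, hneg]; group
        _ = scalarU (ι ⊕ ι) (-1) * (g * blockU ((1 : GL ι F), -1)) * swapJ := by
            rw [← scalarU_comm]; group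
        _ = scalarU (ι ⊕ ι) (-1) * scalarU (ι ⊕ ι) (-1) * blockU ((1 : GL ι F), -1) * (g * swapJ) := by
            rw [e1, hneg]; group
        _ = blockU ((1 : GL ι F), -1) * (g * swapJ) := by rw [← map_mul]; simp
    have hmem := main (g * swapJ) (G2.mul_mem hgG hJG) hn
      (mul_pow_two_eq_one hX2grp hg2 hg hXJ) hcom
    simpa using (wr2 T hT).mul_mem hmem ((wr2 T hT).inv_mem (swapJ_mem_wr2 (T := T) (hT := hT)))

theorem wr2_two_group [Nonempty ι] {T : Subgroup (GL ι F)} {hT : (-1 : GL ι F) ∈ T}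
    (h : ∀ t ∈ T, ∃ k : ℕ, t ^ 2 ^ k = 1) : ∀ x ∈ wr2 T hT, ∃ k : ℕ, x ^ 2 ^ k = 1 := by
  have hblock : ∀ a ∈ T, ∀ b ∈ T, ∃ k : ℕ, blockU (a, b) ^ 2 ^ k = 1 := by
    intro a ha b hb
    obtain ⟨k, hk⟩ := h a ha
    obtain ⟨l, hl⟩ := h b hb
    refine ⟨k + l, ?_⟩
    rw [← map_pow, ← map_one blockU]
    congr 1
    ext1
    · show a ^ 2 ^ (k + l) = 1
      rw [pow_add, pow_mul, hk, one_pow]
    · show b ^ 2 ^ (k + l) = 1
      rw [pow_add, mul_comm, pow_mul, hl, one_pow]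
  rintro x ⟨a, ha, b, hb, rfl | rfl⟩
  · exact hblock a ha b hb
  · obtain ⟨k, hk⟩ := hblock _ (T.mul_mem (T.mul_mem ha hb) hT) _ (T.mul_mem (T.mul_mem hb ha) hT)
    refine ⟨k + 1, ?_⟩
    rw [pow_succ', pow_mul, pow_two, mul_assoc (blockU _), ← mul_assoc swapJ, swapJ_mul_blockU,
      mul_assoc (blockU (b, a)), swapJ_sq, ← map_mul, ← map_mul]
    convert hk using 3
    ext1 <;> simp [mul_assoc]

section

variable (ι' : Type) [Fintype ι'] [DecidableEq ι']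

/-- Induction hypothesis for a block size. -/
def GoodU (κ : Type) [Fintype κ] [DecidableEq κ] : Prop :=
  ∃ T : Subgroup (GL κ F), (-1 : GL κ F) ∈ T ∧ T ≤ UGI φ κ ∧ (∀ t ∈ T, ∃ k : ℕ, t ^ 2 ^ k = 1) ∧
    (∀ a : GL κ F, (∀ c ∈ T ⊓ detKer κ F, a * c = c * a) → IsScalarU a) ∧
    (∃ c ∈ T ⊓ detKer κ F, c * c ≠ 1) ∧
    (∀ A ∈ UGI φ κ, (∀ t ∈ T, A * t * A⁻¹ ∈ T) → ∃ N : ℕ, IsScalarU (A ^ 2 ^ N)) ∧
    (∀ A ∈ UGI φ κ, (∀ t ∈ T, A * t * A⁻¹ ∈ T) → (∃ k : ℕ, A ^ 2 ^ k = 1) → A ∈ T)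

/-- The conclusion at a given size. -/
def StrongU (κ : Type) [Fintype κ] [DecidableEq κ] : Prop :=
  ∃ X : Subgroup (GL κ F), X ≤ UGI φ κ ⊓ detKer κ F ∧ (∀ x ∈ X, ∃ k : ℕ, x ^ 2 ^ k = 1) ∧
    (∀ g ∈ UGI φ κ, (∀ x ∈ X, g * x * g⁻¹ ∈ X) → ∃ N : ℕ, IsScalarU (g ^ 2 ^ N)) ∧
    (∀ g ∈ UGI φ κ ⊓ detKer κ F, (∀ x ∈ X, g * x * g⁻¹ ∈ X) → (∃ k : ℕ, g ^ 2 ^ k = 1) → g ∈ X)

theorem good_step [Fintype F] [Nonempty ι'] (h2 : (2 : F) ≠ 0) (hev : Even (Fintype.card ι'))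
    (hG : GoodU φ ι') : GoodU φ (ι' ⊕ ι') ∧ StrongU φ (ι' ⊕ ι') := by
  obtain ⟨T, hT, hTU, hT2, hTcent, ⟨c, hc, hcc⟩, hTN, hTmax⟩ := hG
  set S := wr2 T hT with hS
  set X := S ⊓ detKer (ι' ⊕ ι') F with hX
  have hz : (((-1 : GL ι' F)) : Matrix ι' ι' F).det = 1 := by
    rw [Units.val_neg, Units.val_one, Matrix.det_neg, Matrix.det_one, mul_one, hev.neg_one_pow]
  have hX1 : ∀ c ∈ T ⊓ detKer ι' F, blockU (c, 1) ∈ X := by
    intro c hc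
    refine ⟨blockU_mem_wr2.mpr ⟨hc.1, T.one_mem⟩, ?_⟩
    show DetOne _
    rw [DetOne, det_blockU]
    simp [(mem_detKer.mp hc.2)]
  have hXJ : swapJ ∈ X := ⟨swapJ_mem_wr2, det_swapJ⟩
  have hXz : blockU (1, (-1 : GL ι' F)) ∈ X := by
    refine ⟨blockU_mem_wr2.mpr ⟨T.one_mem, hT⟩, ?_⟩
    show DetOne _
    rw [DetOne, det_blockU, hz]
    simp
  have hXT : ∀ t ∈ T, blockU (t, t⁻¹) ∈ X := by
    intro t ht
    refine ⟨blockU_mem_wr2.mpr ⟨ht, T.inv_mem ht⟩, ?_⟩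
    show DetOne _
    rw [DetOne, det_blockU, ← Matrix.det_mul, ← Units.val_mul, mul_inv_cancel]
    simp
  have hSU : S ≤ UGI φ (ι' ⊕ ι') := by
    rintro x ⟨a, ha, b, hb, rfl | rfl⟩
    · exact (blockU_mem_UGI φ).mpr ⟨hTU ha, hTU hb⟩
    · exact mul_mem ((blockU_mem_UGI φ).mpr ⟨hTU ha, hTU hb⟩) (swapJ_mem_UGI φ)
  have hS2 := wr2_two_group (hT := hT) hT2
  have hG' : ∀ a b, blockU (a, b) ∈ UGI φ (ι' ⊕ ι') → a ∈ UGI φ ι' ∧ b ∈ UGI φ ι' :=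
    fun a b h => (blockU_mem_UGI φ).mp h
  have hA : ∀ g ∈ UGI φ (ι' ⊕ ι'), (∀ x ∈ X, g * x * g⁻¹ ∈ X) → ∃ N : ℕ, IsScalarU (g ^ 2 ^ N) := by
    intro g hgU hg
    exact exists_pow_scalar (T1 := T ⊓ detKer ι' F) hTcent hX1 hXJ hXz h2 ⟨c, hc, hcc⟩
      (inf_le_left : X ≤ S) hXT (fun x hx => hS2 x hx.1) hG' hTN hgU (fun x => conj_mem_iff hg x)
  have hB : ∀ g ∈ UGI φ (ι' ⊕ ι'), (∀ x ∈ X, g * x * g⁻¹ ∈ X) → (∃ k : ℕ, g ^ 2 ^ k = 1) → g ∈ S := by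
    intro g hgU hg hg2
    exact mem_wr2_of_two_element (T1 := T ⊓ detKer ι' F) hTcent hX1 hXJ hXz h2 ⟨c, hc, hcc⟩
      (inf_le_left : X ≤ S) hXT (fun x hx => hS2 x hx.1) hG' (swapJ_mem_UGI φ) hTmax hgU
      (fun x => conj_mem_iff hg x) hg2
  have hrestrict : ∀ g : GL (ι' ⊕ ι') F, (∀ t ∈ S, g * t * g⁻¹ ∈ S) → ∀ x ∈ X, g * x * g⁻¹ ∈ X := by
    intro g hg x hx
    refine ⟨hg x hx.1, ?_⟩
    show DetOne _
    rw [DetOne, PronormalPSL.det_conj]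
    exact hx.2
  refine ⟨⟨S, ?_, hSU, hS2, ?_, ⟨blockU (c, 1), hX1 c hc, ?_⟩, fun A hAU hA' => hA A hAU (hrestrict A hA'),
    fun A hAU hA' hA2 => hB A hAU (hrestrict A hA') hA2⟩,
    ⟨X, inf_le_inf hSU le_rfl, fun x hx => hS2 x hx.1, hA, fun g hg hg' hg2 => ⟨hB g hg.1 hg' hg2, hg.2⟩⟩⟩
  · rw [← scalarU_neg_one, scalarU_sum, scalarU_neg_one]
    exact blockU_mem_wr2.mpr ⟨hT, hT⟩
  · exact isScalarU_of_centralizes (T1 := T ⊓ detKer ι' F) hTcent hX1 hXJ hXz h2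
  · intro h
    rw [← map_mul, ← map_one blockU] at h
    exact hcc (congrArg Prod.fst (blockU_injective h))

end

end CfsgLib.PronormalPSU
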